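import Groth.Agent.ModPair.K971.Basic
import Mathlib.AlgebraicGeometry.Morphisms.Proper
import Mathlib.AlgebraicGeometry.Morphisms.Flat

/-!
# The scheme theoretic closure `mprod` of the product of the interiors

* `quasiCompact_prodInterior`, `prodInterior_eq_fst`, `prodInterior_eq_snd`.
* `isEff_comap_fst`, `isEff_comap_snd`: both moduli pull back to effective Cartier ideals on `mprod`.
* `dominant_lift`, `existsUnique_lift`: morphisms from modulus pairs whose interior maps to the product of the
  interiors lift uniquely to `mprod`.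
* `isIso_imageι_restrict`: the image closed immersion of an open `V` is an isomorphism over `V`.
* `isIso_imageι_of_dominant`.
-/

set_option autoImplicit false

universe u

open CategoryTheory CategoryTheory.Limits AlgebraicGeometry TopologicalSpace

namespace K971.MProd

open ModPair K971.Basic Groth.Agent.Divis.EffCartier Groth.Agent.Divis.IdealComap Groth.Agent.Flat2C.TorsIdeal
  Groth.Agent.Flat2C.ClosureIso

variable {X Y Z W S T P : Scheme.{u}}

/-! ### isomorphisms over an open -/

theorem isIso_restrict_of_isPullback {p₁ : P ⟶ X} {p₂ : P ⟶ T} {f : X ⟶ S} {g : T ⟶ S} (H : IsPullback p₁ p₂ f g)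
    (U : S.Opens) [IsIso (f ∣_ U)] (V : T.Opens) (hV : V ≤ g ⁻¹ᵁ U) : IsIso (p₂ ∣_ V) := by
  have H1 := (isPullback_morphismRestrict p₂ V).flip.paste_horiz H
  have H2 := (isPullback_morphismRestrict f U).flip
  have hr : Set.range (V.ι ≫ g) ⊆ Set.range U.ι := by
    rw [Scheme.Opens.range_ι]
    rintro _ ⟨v, rfl⟩
    exact hV v.2
  have e : V.ι ≫ g = IsOpenImmersion.lift U.ι (V.ι ≫ g) hr ≫ U.ι := (IsOpenImmersion.lift_fac _ _ _).symm
  rw [e] at H1
  have hc : ((p₂ ⁻¹ᵁ V).ι ≫ p₁) ≫ f = (p₂ ∣_ V ≫ IsOpenImmersion.lift U.ι (V.ι ≫ g) hr) ≫ U.ι := by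
    rw [H1.w, Category.assoc]
  have H3 : IsPullback (H2.lift _ _ hc) (p₂ ∣_ V) (f ∣_ U) (IsOpenImmersion.lift U.ι (V.ι ≫ g) hr) := by
    refine IsPullback.of_right (h₁₂ := (f ⁻¹ᵁ U).ι) (h₂₂ := U.ι) (v₁₃ := f) ?_ (H2.lift_snd _ _ hc) H2
    rw [H2.lift_fst]
    exact H1
  exact H3.isIso_snd_of_isIso

theorem isIso_restrict_of_le {f : X ⟶ Y} {U V : Y.Opens} (h : V ≤ U) [IsIso (f ∣_ U)] : IsIso (f ∣_ V) :=
  isIso_restrict_of_isPullback (IsPullback.id_horiz f) U V h

/-! ### Closures of opens -/

/-- `V ⟶ V.ι.image` is an isomorphism onto the preimage of `V`. -/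
theorem isIso_imageι_restrict (V : P.Opens) [QuasiCompact V.ι] : IsIso (V.ι.imageι ∣_ V) := by
  have h := isIso_image_restrict V.ι (𝟙 P)
  rw [Category.comp_id] at h
  have h2 : (V.ι ≫ 𝟙 P).opensRange = V := by
    ext x
    simp
  rwa [h2] at h

lemma imageι_preimage_eq_opensRange (V : P.Opens) [QuasiCompact V.ι] :
    Set.range V.ι.toImage = V.ι.imageι ⁻¹ᵁ V := by
  apply subset_antisymm
  · rintro _ ⟨v, rfl⟩
    change V.ι.imageι (V.ι.toImage v) ∈ V
    rw [← Scheme.Hom.comp_apply, Scheme.Hom.toImage_imageι]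
    exact v.2
  · intro x hx
    have hx' : V.ι.imageι x ∈ V := hx
    obtain ⟨v, hv⟩ : ∃ v : (V : Scheme.{u}), V.ι v = V.ι.imageι x := by
      rw [← Set.mem_range, Scheme.Opens.range_ι]
      exact hx'
    refine ⟨v, ?_⟩
    apply V.ι.imageι.isEmbedding.injective
    rw [← Scheme.Hom.comp_apply, Scheme.Hom.toImage_imageι, hv]

/-- If `V` is schematically dense then its schematic image is everything. -/
theorem isIso_imageι_of_dominant (V : P.Opens) [IsSchemeTheoreticallyDominant V.ι] : IsIso V.ι.imageι := by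
  rw [IsClosedImmersion.isIso_iff_ker_eq_bot, Scheme.IdealSheafData.ker_subschemeι]
  exact V.ι.ker_eq_bot

theorem dominant_of_isIso_imageι (V : P.Opens) (h : IsIso V.ι.imageι) : IsSchemeTheoreticallyDominant V.ι := by
  rw [IsClosedImmersion.isIso_iff_ker_eq_bot, Scheme.IdealSheafData.ker_subschemeι] at h
  exact ⟨h⟩

/-- A morphism `h : W ⟶ P` such that a schematically dense open of `W` maps into `V` factors through the schematic
image of `V`. -/
theorem ker_le_of_dominant (V : P.Opens) (h : W ⟶ P) (U : W.Opens) [IsSchemeTheoreticallyDominant U.ι]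
    (hU : U ≤ h ⁻¹ᵁ V) : V.ι.ker ≤ h.ker := by
  have h1 : U.ι ≫ h = (IsOpenImmersion.lift V.ι (U.ι ≫ h) (by
      rw [Scheme.Opens.range_ι]
      rintro _ ⟨x, rfl⟩
      exact hU x.2)) ≫ V.ι := (IsOpenImmersion.lift_fac _ _ _).symm
  have h2 : (U.ι ≫ h).ker = h.ker := by
    rw [Scheme.Hom.ker_comp, U.ι.ker_eq_bot, Scheme.IdealSheafData.map_bot]
  rw [← h2, h1]
  exact Scheme.Hom.le_ker_comp _ _

theorem existsUnique_lift_image (V : P.Opens) (h : W ⟶ P) (U : W.Opens) [IsSchemeTheoreticallyDominant U.ι]
    (hU : U ≤ h ⁻¹ᵁ V) : ∃! c : W ⟶ V.ι.image, c ≫ V.ι.imageι = h := by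
  refine ⟨IsClosedImmersion.lift V.ι.imageι h ?_, IsClosedImmersion.lift_fac _ _ _, fun c hc => ?_⟩
  · rw [Scheme.IdealSheafData.ker_subschemeι]
    exact ker_le_of_dominant V h U hU
  · rw [← cancel_mono V.ι.imageι, hc, IsClosedImmersion.lift_fac]

/-! ### products of interiors -/

section

variable {f : X ⟶ S} {g : T ⟶ S} {I : X.IdealSheafData} {J : T.IdealSheafData} {IS : S.IdealSheafData}

lemma prodInterior_eq_interior_mul (f : X ⟶ S) (g : T ⟶ S) (I : X.IdealSheafData) (J : T.IdealSheafData) :
    prodInterior f g I J = interior (I.comap (pullback.fst f g) * J.comap (pullback.snd f g)) := by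
  rw [interior_mul, interior_comap, interior_comap]
  rfl

lemma isAffineHom_prodInterior (f : X ⟶ S) (g : T ⟶ S) (hI : LocPrin I) (hJ : LocPrin J) :
    IsAffineHom (prodInterior f g I J).ι := by
  have := ((hI.comap (pullback.fst f g)).mul (hJ.comap (pullback.snd f g))).isAffineHom
  rwa [prodInterior_eq_interior_mul]

lemma quasiCompact_prodInterior (f : X ⟶ S) (g : T ⟶ S) (hI : LocPrin I) (hJ : LocPrin J) :
    QuasiCompact (prodInterior f g I J).ι := by
  have := isAffineHom_prodInterior f g hI hJ
  infer_instance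

lemma prodInterior_le_fst : prodInterior f g I J ≤ (pullback.fst f g) ⁻¹ᵁ interior I := inf_le_left

lemma prodInterior_le_snd : prodInterior f g I J ≤ (pullback.snd f g) ⁻¹ᵁ interior J := inf_le_right

/-- when `g` is minimal, the product of the interiors is the preimage of the interior of `X` -/
lemma prodInterior_eq_fst (hf : IsAmbient I IS f) (hg : IsMinimal J IS g) :
    prodInterior f g I J = (pullback.fst f g) ⁻¹ᵁ interior I := by
  refine le_antisymm inf_le_left (le_inf le_rfl ?_)
  rw [minimal_interior_eq hg, ← Scheme.Hom.comp_preimage, ← pullback.condition, Scheme.Hom.comp_preimage]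
  exact (pullback.fst f g).preimage_mono (ambient_interior_le hf)

/-- when `f` is minimal, the product of the interiors is the preimage of the interior of `T` -/
lemma prodInterior_eq_snd (hf : IsMinimal I IS f) (hg : IsAmbient J IS g) :
    prodInterior f g I J = (pullback.snd f g) ⁻¹ᵁ interior J := by
  refine le_antisymm inf_le_right (le_inf ?_ le_rfl)
  rw [minimal_interior_eq hf, ← Scheme.Hom.comp_preimage, pullback.condition, Scheme.Hom.comp_preimage]
  exact (pullback.snd f g).preimage_mono (ambient_interior_le hg)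

theorem isEff_comap_fst (hI : LocPrin I) (hJ : LocPrin J) :
    BlowUp.IsEffCartierIdeal (I.comap (mprodι f g I J ≫ pullback.fst f g)) := by
  have := quasiCompact_prodInterior f g hI hJ
  rw [Scheme.IdealSheafData.comap_comp]
  refine isEff_comap_imageι (hI.comap _) ?_
  rw [interior_comap]
  exact prodInterior_le_fst

theorem isEff_comap_snd (hI : LocPrin I) (hJ : LocPrin J) :
    BlowUp.IsEffCartierIdeal (J.comap (mprodι f g I J ≫ pullback.snd f g)) := by
  have := quasiCompact_prodInterior f g hI hJ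
  rw [Scheme.IdealSheafData.comap_comp]
  refine isEff_comap_imageι (hJ.comap _) ?_
  rw [interior_comap]
  exact prodInterior_le_snd

/-- A morphism from a modulus pair to the fibre product sending the interior to the product of the interiors lifts
uniquely to `mprod`. -/
theorem existsUnique_lift {IW : W.IdealSheafData} (hW : BlowUp.IsEffCartierIdeal IW) (h : W ⟶ pullback f g)
    (h₁ : interior IW ≤ (h ≫ pullback.fst f g) ⁻¹ᵁ interior I)
    (h₂ : interior IW ≤ (h ≫ pullback.snd f g) ⁻¹ᵁ interior J) :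
    ∃! c : W ⟶ mprod f g I J, c ≫ mprodι f g I J = h := by
  have := dominant_interior hW
  exact existsUnique_lift_image (prodInterior f g I J) h (interior IW) (le_inf h₁ h₂)

theorem existsUnique_lift_of_ambient {IW : W.IdealSheafData} (hW : BlowUp.IsEffCartierIdeal IW)
    (h : W ⟶ pullback f g) (h₁ : IsAmbient IW I (h ≫ pullback.fst f g))
    (h₂ : IsAmbient IW J (h ≫ pullback.snd f g)) :
    ∃! c : W ⟶ mprod f g I J, c ≫ mprodι f g I J = h :=
  existsUnique_lift hW h (ambient_interior_le h₁) (ambient_interior_le h₂)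

lemma isIso_mprodι_restrict (f : X ⟶ S) (g : T ⟶ S) (hI : LocPrin I) (hJ : LocPrin J) :
    IsIso (mprodι f g I J ∣_ prodInterior f g I J) := by
  have := quasiCompact_prodInterior f g hI hJ
  exact isIso_imageι_restrict _

/-- The projection of `mprod` to `T` when `f` is an isomorphism over the interior of `S`. -/
theorem isIso_mprod_snd_restrict (hI : LocPrin I) (hJ : LocPrin J) (hf : IsMinimal I IS f) (hg : IsAmbient J IS g)
    [IsSeparated f] [IsIso (f ∣_ interior IS)] :
    IsIso ((mprodι f g I J ≫ pullback.snd f g) ∣_ interior J) := by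
  have h1 : IsIso (mprodι f g I J ∣_ ((pullback.snd f g) ⁻¹ᵁ interior J)) := by
    rw [← prodInterior_eq_snd hf hg]
    exact isIso_mprodι_restrict f g hI hJ
  have h2 : IsIso (pullback.snd f g ∣_ interior J) :=
    isIso_restrict_of_isPullback (IsPullback.of_hasPullback f g) (interior IS) _ (ambient_interior_le hg)
  rw [morphismRestrict_comp]
  exact IsIso.comp_isIso' h1 h2

end

end K971.MProd
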