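import Groth.Prelude.Def_W4c6modpairsegaMP
import Groth.Agent.Flat2C.ClosureIso
import Groth.Agent.Divis.ColonIdeal
import Groth.Agent.Divis.BlowUpFormal
import Groth.Agent.Divis.CartierCompl

/-!
# Basic API for modulus pairs

* `LocPrin`: locally principal ideal sheaves; `locPrin_of_isEff`, `LocPrin.comap`, `LocPrin.mul`.
* `interior_comap`, `interior_mono`, `interior_mul`, `ambient_interior_le`, `minimal_interior_eq`.
* `LocPrin.isAffineHom_interior_ι`: the complement of a locally principal closed subscheme is affine over `X`.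
* `isEff_of_dominant`, `dominant_interior`, `LocPrin.isEff_iff`: a locally principal ideal is effective Cartier iff
  its interior is schematically dense.
* `isEff_comap_of_ambient`: S18731.
* `isEff_comap_iff`: `J.comap f` is effective Cartier iff `f⁻¹(interior J)` is schematically dense.
* `dominant_homOfLE_inf`: restriction to opens.
* `isEff_comap_imageι`: closure of an open inside the interior.
* `hom_ext_interior`: separated homs agreeing on the interior agree.
* cancellation: `mul_le_mul_iff`, `mul_right_cancel`, `exists_mul_eq`.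
-/

set_option autoImplicit false

universe u

open CategoryTheory CategoryTheory.Limits AlgebraicGeometry TopologicalSpace

namespace K971.Basic

open ModPair Groth.Agent.Divis.EffCartier Groth.Agent.Divis.IdealComap Groth.Agent.Flat2C.TorsIdeal

variable {X Y Z W S T : Scheme.{u}}

/-! ### locally principal ideals -/

/-- `I` is locally generated by one section. -/
def LocPrin (I : X.IdealSheafData) : Prop :=
  ∀ x : X, ∃ U : X.affineOpens, x ∈ U.1 ∧ ∃ f : Γ(X, U.1), I.ideal U = Ideal.span {f}

lemma locPrin_of_isEff {I : X.IdealSheafData} (h : BlowUp.IsEffCartierIdeal I) : LocPrin I := fun x => by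
  obtain ⟨U, hx, f, -, hf⟩ := h x
  exact ⟨U, hx, f, hf⟩

lemma LocPrin.exists_le {I : X.IdealSheafData} (h : LocPrin I) (x : X) (W : X.Opens) (hW : x ∈ W) :
    ∃ U : X.affineOpens, x ∈ U.1 ∧ U.1 ≤ W ∧ ∃ f : Γ(X, U.1), I.ideal U = Ideal.span {f} := by
  obtain ⟨U, hxU, f, hf⟩ := h x
  obtain ⟨V, hV, hxV, hVW⟩ := exists_isAffineOpen_mem_and_subset (U := W ⊓ U.1) (x := x) ⟨hW, hxU⟩
  have hVU : V ≤ U.1 := fun _ h ↦ (hVW h).2
  refine ⟨⟨V, hV⟩, hxV, fun _ h ↦ (hVW h).1, (X.presheaf.map (homOfLE hVU).op).hom f, ?_⟩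
  rw [← I.map_ideal (U := ⟨V, hV⟩) (V := U) hVU, hf, Ideal.map_span, Set.image_singleton]
  rfl

lemma LocPrin.comap {J : Y.IdealSheafData} (h : LocPrin J) (f : X ⟶ Y) : LocPrin (J.comap f) := fun x => by
  obtain ⟨U, hxU, a, ha⟩ := h (f x)
  obtain ⟨U', V, hxU', hxV, -, hU'U, e⟩ := exists_affine_le f x ⊤ trivial U.1 hxU
  have e' : V.1 ≤ f ⁻¹ᵁ U.1 := fun _ h ↦ hU'U (e h)
  refine ⟨V, hxV, (f.appLE U V e').hom a, ?_⟩
  rw [ideal_comap _ f U V e', ha, Ideal.map_span, Set.image_singleton]

lemma LocPrin.mul {I J : X.IdealSheafData} (hI : LocPrin I) (hJ : LocPrin J) : LocPrin (I * J) := fun x => by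
  obtain ⟨U, hxU, f, hf⟩ := hI x
  obtain ⟨V, hxV, hVU, g, hg⟩ := hJ.exists_le x U.1 hxU
  refine ⟨V, hxV, (X.presheaf.map (homOfLE hVU).op).hom f * g, ?_⟩
  have : I.ideal V = Ideal.span {(X.presheaf.map (homOfLE hVU).op).hom f} := by
    rw [← I.map_ideal (U := V) (V := U) hVU, hf, Ideal.map_span, Set.image_singleton]
    rfl
  simp only [Scheme.IdealSheafData.ideal_mul, Pi.mul_apply]
  rw [this, hg, Ideal.span_singleton_mul_span_singleton]

lemma LocPrin.isFT {I : X.IdealSheafData} (h : LocPrin I) : BlowUp.IsFiniteTypeIdeal I := by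
  intro V
  apply Groth.Agent.Divis.IdealFT.fg_of_cover
  intro x hx
  obtain ⟨W, h1, -, f, h3⟩ := h.exists_le x V.1 hx
  exact ⟨W, h1, by rw [h3]; exact Submodule.fg_span_singleton f⟩

/-! ### interiors -/

lemma interior_eq (I : X.IdealSheafData) : interior I = I.support.compl := rfl

lemma mem_interior {I : X.IdealSheafData} {x : X} : x ∈ interior I ↔ x ∉ I.support := Iff.rfl

@[simp]
lemma interior_comap (J : Y.IdealSheafData) (f : X ⟶ Y) : interior (J.comap f) = f ⁻¹ᵁ interior J := by
  ext x
  simp only [SetLike.mem_coe, mem_interior, Scheme.IdealSheafData.support_comap]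
  rfl

lemma interior_mono {I J : X.IdealSheafData} (h : I ≤ J) : interior I ≤ interior J := by
  intro x hx hx'
  apply hx
  exact Scheme.IdealSheafData.support_antitone h hx'

lemma interior_mul (I J : X.IdealSheafData) : interior (I * J) = interior I ⊓ interior J := by
  ext x
  simp only [SetLike.mem_coe, mem_interior, Scheme.IdealSheafData.support_mul, Opens.coe_inf, Set.mem_inter_iff]
  change ¬ (x ∈ I.support ∨ x ∈ J.support) ↔ _
  rw [not_or]

lemma interior_sup (I J : X.IdealSheafData) : interior (I ⊔ J) = interior I ⊔ interior J := by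
  ext x
  simp only [SetLike.mem_coe, mem_interior, Scheme.IdealSheafData.support_sup, Opens.coe_sup, Set.mem_union]
  change ¬ (x ∈ I.support ∧ x ∈ J.support) ↔ _
  rw [not_and_or]

@[simp]
lemma interior_top : interior (⊤ : X.IdealSheafData) = ⊤ := by
  ext x
  simp only [SetLike.mem_coe, mem_interior, Scheme.IdealSheafData.support_top, Opens.coe_top, Set.mem_univ,
    iff_true]
  exact fun h => h

lemma interior_eq_top_iff {I : X.IdealSheafData} : interior I = ⊤ ↔ I = ⊤ := by
  refine ⟨fun h => ?_, fun h => by rw [h, interior_top]⟩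
  rw [← Scheme.IdealSheafData.support_eq_bot_iff]
  ext x
  have : x ∈ interior I := by rw [h]; trivial
  simpa [mem_interior] using this

/-- the interior of the source of an ambient morphism maps to the interior of the target -/
lemma ambient_interior_le {I : X.IdealSheafData} {J : Y.IdealSheafData} {f : X ⟶ Y} (h : IsAmbient I J f) :
    interior I ≤ f ⁻¹ᵁ interior J := by
  rw [← interior_comap]
  exact interior_mono h

lemma minimal_interior_eq {I : X.IdealSheafData} {J : Y.IdealSheafData} {f : X ⟶ Y} (h : IsMinimal I J f) :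
    interior I = f ⁻¹ᵁ interior J := by
  rw [← interior_comap, ← show I = J.comap f from h]

lemma IsMinimal.isAmbient {I : X.IdealSheafData} {J : Y.IdealSheafData} {f : X ⟶ Y} (h : IsMinimal I J f) :
    IsAmbient I J f := le_of_eq h

lemma isAmbient_comp {I : X.IdealSheafData} {J : Y.IdealSheafData} {K : Z.IdealSheafData} {f : X ⟶ Y} {g : Y ⟶ Z}
    (hf : IsAmbient I J f) (hg : IsAmbient J K g) : IsAmbient I K (f ≫ g) := by
  change _ ≤ _
  rw [Scheme.IdealSheafData.comap_comp]
  exact le_trans hf (Scheme.IdealSheafData.comap_mono f hg)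

lemma isMinimal_comp {I : X.IdealSheafData} {J : Y.IdealSheafData} {K : Z.IdealSheafData} {f : X ⟶ Y} {g : Y ⟶ Z}
    (hf : IsMinimal I J f) (hg : IsMinimal J K g) : IsMinimal I K (f ≫ g) := by
  change _ = _
  rw [Scheme.IdealSheafData.comap_comp, ← show J = K.comap g from hg]
  exact hf

lemma isMinimal_id (I : X.IdealSheafData) : IsMinimal I I (𝟙 X) := (Scheme.IdealSheafData.comap_id I).symm

lemma quasiCompact_interior_ι {I : X.IdealSheafData} (h : BlowUp.IsFiniteTypeIdeal I) :
    QuasiCompact (interior I).ι := quasiCompact_compl_ι h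

/-- The complement of a locally principal closed subscheme is affine over `X`. -/
theorem LocPrin.isAffineHom {I : X.IdealSheafData} (hI : LocPrin I) : IsAffineHom (interior I).ι := by
  apply isAffineHom_of_forall_exists_isAffineOpen
  intro x
  obtain ⟨U, hxU, f, h⟩ := hI x
  refine ⟨U.1, hxU, U.2, ?_⟩
  rw [← (interior I).ι.isAffineOpen_iff_of_isOpenImmersion,
    Groth.Agent.Divis.CartierCompl.image_preimage_eq, interior_eq,
    Groth.Agent.Divis.CartierCompl.compl_support_inf_eq_basicOpen I U f h]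
  exact U.2.basicOpen f

lemma isAffineHom_interior {I : X.IdealSheafData} (hI : BlowUp.IsEffCartierIdeal I) :
    IsAffineHom (interior I).ι := (locPrin_of_isEff hI).isAffineHom

/-- The interior of a modulus pair is schematically dense. -/
theorem dominant_interior {I : X.IdealSheafData} (hI : BlowUp.IsEffCartierIdeal I) :
    IsSchemeTheoreticallyDominant (interior I).ι := isSchemeTheoreticallyDominant_compl hI

lemma quasiCompact_interior {I : X.IdealSheafData} (hI : BlowUp.IsEffCartierIdeal I) :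
    QuasiCompact (interior I).ι := quasiCompact_interior_ι (isFiniteTypeIdeal_of_isEff hI)

lemma dense_interior {I : X.IdealSheafData} (hI : BlowUp.IsEffCartierIdeal I) :
    Dense (interior I : Set X) := dense_compl hI

/-- A locally principal ideal whose interior is schematically dense is effective Cartier. -/
theorem isEff_of_dominant {I : X.IdealSheafData} (hI : LocPrin I)
    [IsSchemeTheoreticallyDominant (interior I).ι] : BlowUp.IsEffCartierIdeal I := by
  intro x
  obtain ⟨U, hxU, f, h⟩ := hI x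
  refine ⟨U, hxU, f, ?_, h⟩
  rw [mem_nonZeroDivisors_iff_right]
  intro a ha
  have := hI.isAffineHom
  have hker : a ∈ (compl I).ι.ker.ideal U := by
    have : QuasiCompact (compl I).ι := quasiCompact_compl_ι hI.isFT
    rw [mem_ker_ι_iff]
    have h1 : compl I ⊓ U.1 = X.basicOpen f :=
      Groth.Agent.Divis.CartierCompl.compl_support_inf_eq_basicOpen I U f h
    have h2 : X.presheaf.map (homOfLE (X.basicOpen_le f)).op a = 0 :=
      (res_basicOpen_eq_zero_iff U a f).2 ⟨1, by rw [pow_one, mul_comm]; exact ha⟩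
    have h3 : ∀ (V : X.Opens) (hV : V = X.basicOpen f) (hle : V ≤ U.1),
        X.presheaf.map (homOfLE hle).op a = 0 := by
      rintro V rfl hle
      exact h2
    exact h3 _ h1 _
  have h0 : (compl I).ι.ker = ⊥ := (interior I).ι.ker_eq_bot
  rw [h0] at hker
  simpa using hker

theorem LocPrin.isEff_iff {I : X.IdealSheafData} (hI : LocPrin I) :
    BlowUp.IsEffCartierIdeal I ↔ IsSchemeTheoreticallyDominant (interior I).ι :=
  ⟨dominant_interior, fun _ => isEff_of_dominant hI⟩

/-- If `t ≫ g` is schematically dominant, so is `g`. -/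
lemma dominant_of_comp (f : X ⟶ Y) (g : Y ⟶ Z) [IsSchemeTheoreticallyDominant (f ≫ g)] :
    IsSchemeTheoreticallyDominant g := by
  refine ⟨?_⟩
  rw [eq_bot_iff, ← (f ≫ g).ker_eq_bot]
  exact Scheme.Hom.le_ker_comp f g

lemma dominant_of_le {U V : X.Opens} (h : U ≤ V) [IsSchemeTheoreticallyDominant U.ι] :
    IsSchemeTheoreticallyDominant V.ι := by
  have : IsSchemeTheoreticallyDominant (X.homOfLE h ≫ V.ι) := by
    rw [Scheme.homOfLE_ι]; infer_instance
  exact dominant_of_comp (X.homOfLE h) V.ι

lemma dominant_congr {U V : X.Opens} (h : U = V) [IsSchemeTheoreticallyDominant U.ι] :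
    IsSchemeTheoreticallyDominant V.ι := dominant_of_le h.le

/-- `J.comap f` is effective Cartier iff `f⁻¹(interior J)` is schematically dense. -/
theorem isEff_comap_iff {J : Y.IdealSheafData} (hJ : LocPrin J) (f : X ⟶ Y) :
    BlowUp.IsEffCartierIdeal (J.comap f) ↔ IsSchemeTheoreticallyDominant (f ⁻¹ᵁ interior J).ι := by
  rw [(hJ.comap f).isEff_iff, interior_comap]

/-- schematic density of a quasi-compact open restricts to opens -/
theorem dominant_homOfLE_inf (V W : X.Opens) [QuasiCompact V.ι] [IsSchemeTheoreticallyDominant V.ι] :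
    IsSchemeTheoreticallyDominant (X.homOfLE (inf_le_right : V ⊓ W ≤ W)) :=
  IsSchemeTheoreticallyDominant.of_isPullback (isPullback_opens_inf V W)

/-! ### the modulus condition -/

/-- Under the modulus condition the pulled back divisor is defined. -/
theorem isEff_comap_of_ambient {I : X.IdealSheafData} {J : Y.IdealSheafData} (hI : BlowUp.IsEffCartierIdeal I)
    (hJ : LocPrin J) {f : X ⟶ Y} (hf : IsAmbient I J f) : BlowUp.IsEffCartierIdeal (J.comap f) := by
  have := dominant_interior hI
  rw [isEff_comap_iff hJ]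
  exact dominant_of_le (ambient_interior_le hf)

/-- The scheme theoretic image of a quasi-compact open lying in the interior of a locally principal `K`. -/
theorem isEff_comap_imageι {V : X.Opens} [QuasiCompact V.ι] {K : X.IdealSheafData} (hK : LocPrin K)
    (hV : V ≤ interior K) : BlowUp.IsEffCartierIdeal (K.comap V.ι.imageι) := by
  rw [isEff_comap_iff hK]
  have := Groth.Agent.Flat2C.ClosureIso.isSchemeTheoreticallyDominant_toImage V.ι
  have hr : Set.range V.ι.toImage ⊆ Set.range (V.ι.imageι ⁻¹ᵁ interior K).ι := by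
    rw [Scheme.Opens.range_ι]
    rintro _ ⟨v, rfl⟩
    change V.ι.imageι (V.ι.toImage v) ∈ interior K
    rw [← Scheme.Hom.comp_apply, Scheme.Hom.toImage_imageι]
    exact hV v.2
  have h1 : IsOpenImmersion.lift (V.ι.imageι ⁻¹ᵁ interior K).ι V.ι.toImage hr ≫
      (V.ι.imageι ⁻¹ᵁ interior K).ι = V.ι.toImage := IsOpenImmersion.lift_fac _ _ _
  have : IsSchemeTheoreticallyDominant (IsOpenImmersion.lift (V.ι.imageι ⁻¹ᵁ interior K).ι V.ι.toImage hr ≫
      (V.ι.imageι ⁻¹ᵁ interior K).ι) := by rw [h1]; infer_instance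
  exact dominant_of_comp (IsOpenImmersion.lift (V.ι.imageι ⁻¹ᵁ interior K).ι V.ι.toImage hr) _

/-- Morphisms over a separated target which agree on the interior agree. -/
theorem hom_ext_interior {I : X.IdealSheafData} (hI : BlowUp.IsEffCartierIdeal I) {f g : X ⟶ Y} (s : Y ⟶ Z)
    [IsSeparated s] (h : f ≫ s = g ≫ s) (hU : (interior I).ι ≫ f = (interior I).ι ≫ g) : f = g := by
  have := dominant_interior hI
  exact ext_of_isSchemeTheoreticallyDominant s h (interior I).ι hU

/-! ### cancellation -/

lemma span_mul_le_iff {A : Type*} [CommRing A] {e : A} (he : e ∈ nonZeroDivisors A) {I J : Ideal A} :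
    I * Ideal.span {e} ≤ J * Ideal.span {e} ↔ I ≤ J := by
  refine ⟨fun h x hx => ?_, fun h => Ideal.mul_mono_left h⟩
  have h1 : x * e ∈ J * Ideal.span {e} := h (Ideal.mul_mem_mul hx (Ideal.mem_span_singleton_self e))
  rw [Ideal.mem_mul_span_singleton] at h1
  obtain ⟨y, hy, hxy⟩ := h1
  have : (y - x) * e = 0 := by rw [sub_mul, hxy, sub_self]
  have := (mem_nonZeroDivisors_iff_right.1 he) _ this
  rw [← sub_eq_zero.1 this]
  exact hy

/-- Effective Cartier ideals can be cancelled in inequalities. -/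
theorem mul_le_mul_iff {E : X.IdealSheafData} (hE : BlowUp.IsEffCartierIdeal E) {I J : X.IdealSheafData} :
    I * E ≤ J * E ↔ I ≤ J := by
  refine ⟨fun h => ?_, fun h V => ?_⟩
  · choose U hxU f hf hU using hE
    refine Scheme.IdealSheafData.le_of_iSup_eq_top U (top_le_iff.mp fun x _ ↦ by simpa using ⟨x, hxU x⟩) ?_
    intro x
    have h1 := h (U x)
    simp only [Scheme.IdealSheafData.ideal_mul, Pi.mul_apply, hU] at h1
    exact (span_mul_le_iff (hf x)).1 h1
  · simp only [Scheme.IdealSheafData.ideal_mul, Pi.mul_apply]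
    exact Ideal.mul_mono_left (h V)

theorem mul_right_cancel_of_isEff {E : X.IdealSheafData} (hE : BlowUp.IsEffCartierIdeal E) {I J : X.IdealSheafData}
    (h : I * E = J * E) : I = J :=
  le_antisymm ((mul_le_mul_iff hE).1 h.le) ((mul_le_mul_iff hE).1 h.ge)

theorem mul_left_cancel_of_isEff {E : X.IdealSheafData} (hE : BlowUp.IsEffCartierIdeal E) {I J : X.IdealSheafData}
    (h : E * I = E * J) : I = J := by
  rw [mul_comm E, mul_comm E] at h
  exact mul_right_cancel_of_isEff hE h

/-- Any ideal contained in an effective Cartier ideal is a multiple of it. -/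
theorem exists_mul_eq_of_le {J K : X.IdealSheafData} (hK : BlowUp.IsEffCartierIdeal K) (hJK : J ≤ K) :
    ∃ L : X.IdealSheafData, L * K = J :=
  ⟨_, by rw [mul_comm]; exact Groth.Agent.Divis.ColonIdeal.mul_colonSheaf (isFiniteTypeIdeal_of_isEff hK) hK hJK⟩

/-- Differences of nested effective Cartier divisors (no Noetherian hypothesis). -/
theorem exists_mul_eq {J K : X.IdealSheafData} (hK : BlowUp.IsEffCartierIdeal K) (hJ : BlowUp.IsEffCartierIdeal J)
    (hJK : J ≤ K) : ∃ L : X.IdealSheafData, BlowUp.IsEffCartierIdeal L ∧ L * K = J := by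
  obtain ⟨L, hL⟩ := exists_mul_eq_of_le hK hJK
  refine ⟨L, ?_, hL⟩
  rw [← hL] at hJ
  exact Groth.Agent.Divis.BlowUpFormal.isEff_of_mul hJ

theorem mul_le_left (I J : X.IdealSheafData) : I * J ≤ I := fun V => by
  simp only [Scheme.IdealSheafData.ideal_mul, Pi.mul_apply]
  exact Ideal.mul_le_left (I := I.ideal V) (J := J.ideal V)

theorem mul_le_right (I J : X.IdealSheafData) : I * J ≤ J := fun V => by
  simp only [Scheme.IdealSheafData.ideal_mul, Pi.mul_apply]
  exact Ideal.mul_le_right (I := I.ideal V) (J := J.ideal V)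

theorem mul_sup (I J K : X.IdealSheafData) : I * (J ⊔ K) = I * J ⊔ I * K := by
  ext V : 2
  simp only [Scheme.IdealSheafData.ideal_mul, Pi.mul_apply, Scheme.IdealSheafData.ideal_sup, Pi.sup_apply,
    Ideal.mul_sup]

theorem mul_mono {I I' J J' : X.IdealSheafData} (h : I ≤ I') (h' : J ≤ J') : I * J ≤ I' * J' := fun V => by
  simp only [Scheme.IdealSheafData.ideal_mul, Pi.mul_apply]
  exact Ideal.mul_mono (h V) (h' V)

theorem mul_top' (I : X.IdealSheafData) : I * ⊤ = I := by
  ext V : 2
  simp only [Scheme.IdealSheafData.ideal_mul, Pi.mul_apply, Scheme.IdealSheafData.ideal_top, Pi.top_apply,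
    Ideal.mul_top]

theorem top_mul' (I : X.IdealSheafData) : ⊤ * I = I := by rw [mul_comm, mul_top']

theorem sub_inter_coprime_aux {I₁ I₂ E I₁' I₂' : X.IdealSheafData} (hE : BlowUp.IsEffCartierIdeal E)
    (e₁ : I₁' * E = I₁) (e₂ : I₂' * E = I₂) (h₁ : I₁ ≤ E) (hs : I₁ ⊔ I₂ = E) :
    I₁' ⊔ I₂' = ⊤ ∧ ∀ D : X.IdealSheafData, D ≤ I₁ → D ≤ I₂ → D ≤ I₁' * I₂' * E := by
  have htop : I₁' ⊔ I₂' = ⊤ := by
    have h : E * (I₁' ⊔ I₂') = E * ⊤ := by
      rw [mul_sup, mul_comm E I₁', mul_comm E I₂', e₁, e₂, mul_top', hs]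
    exact mul_left_cancel_of_isEff hE h
  refine ⟨htop, fun D hD₁ hD₂ => ?_⟩
  obtain ⟨D', hD'⟩ := exists_mul_eq_of_le hE (hD₁.trans h₁)
  have h3 : D' ≤ I₁' := (mul_le_mul_iff hE).1 (by rw [hD', e₁]; exact hD₁)
  have h4 : D' ≤ I₂' := (mul_le_mul_iff hE).1 (by rw [hD', e₂]; exact hD₂)
  have h5 : D' ≤ I₁' * I₂' := by
    have h6 : D' = D' * I₁' ⊔ D' * I₂' := by rw [← mul_sup, htop, mul_top']
    have h7 : D' * I₁' ≤ I₁' * I₂' := by
      rw [mul_comm D']
      exact mul_mono le_rfl h4
    have h8 : D' * I₂' ≤ I₁' * I₂' := mul_mono h3 le_rfl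
    rw [h6]
    exact sup_le h7 h8
  rw [← hD']
  exact (mul_le_mul_iff hE).2 h5

end K971.Basic
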