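import Groth.Agent.ModPair.K971.Basic
import Groth.Agent.Picfga.IdealGlue
import Mathlib.AlgebraicGeometry.Limits
import Mathlib.CategoryTheory.Limits.Preserves.Basic

/-!
# Coproducts of modulus pairs

* `le_of_openCover`: inequalities of ideal sheaves can be checked on an open cover.
* `exists_sigmaIdeal`: the ideal sheaf on a disjoint union with given restrictions.
* `pairCofan`, `pairCofan_isColimit`: coproducts in `ModPair.Pair`.
-/

set_option autoImplicit false

universe u

open CategoryTheory CategoryTheory.Limits AlgebraicGeometry TopologicalSpace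

namespace K971.Coprod

open ModPair K971.Basic

variable {X Y Z : Scheme.{u}}

lemma le_of_openCover {I J : Y.IdealSheafData} (𝒰 : Scheme.OpenCover.{u} Y)
    (h : ∀ i, I.comap (𝒰.f i) ≤ J.comap (𝒰.f i)) : I ≤ J := by
  have h1 : I ⊔ J = J := by
    refine Groth.Agent.Picfga.IdealGlue.ext_of_openCover 𝒰 fun i => ?_
    rw [Scheme.IdealSheafData.comap_sup]
    exact sup_eq_right.2 (h i)
  exact h1 ▸ le_sup_left

lemma eq_of_isEmpty [IsEmpty X] (I J : X.IdealSheafData) : I = J := by
  refine Groth.Agent.Divis.IdealComap.ext_of_forall_mem fun x => ?_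
  exact isEmptyElim x

theorem exists_sigmaIdeal {σ : Type u} (X : σ → Scheme.{u}) (I : ∀ i, (X i).IdealSheafData) :
    ∃ J : (∐ X).IdealSheafData, ∀ i, J.comap (Sigma.ι X i) = I i := by
  obtain ⟨J, hJ, -⟩ := Groth.Agent.Picfga.IdealGlue.exists_unique_glue (sigmaOpenCover X) I (by
    intro i j
    by_cases hij : i = j
    · subst hij
      have : Mono ((sigmaOpenCover X).f i) := inferInstance
      rw [show pullback.fst ((sigmaOpenCover X).f i) ((sigmaOpenCover X).f i) =
        pullback.snd ((sigmaOpenCover X).f i) ((sigmaOpenCover X).f i) from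
          (cancel_mono ((sigmaOpenCover X).f i)).1 pullback.condition]
    · have : IsEmpty ↑(pullback ((sigmaOpenCover X).f i) ((sigmaOpenCover X).f j)) :=
        isEmpty_pullback_sigmaι_of_ne X hij
      exact eq_of_isEmpty _ _)
  exact ⟨J, hJ⟩

/-- The ideal sheaf on a disjoint union with given restrictions. -/
noncomputable def sigmaIdeal {σ : Type u} (X : σ → Scheme.{u}) (I : ∀ i, (X i).IdealSheafData) :
    (∐ X).IdealSheafData := (exists_sigmaIdeal X I).choose

@[simp]
lemma comap_sigmaIdeal {σ : Type u} (X : σ → Scheme.{u}) (I : ∀ i, (X i).IdealSheafData) (i : σ) :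
    (sigmaIdeal X I).comap (Sigma.ι X i) = I i := (exists_sigmaIdeal X I).choose_spec i

theorem isEff_of_openCover (𝒰 : Scheme.OpenCover.{u} Y) {I : Y.IdealSheafData}
    (h : ∀ i, BlowUp.IsEffCartierIdeal (I.comap (𝒰.f i))) : BlowUp.IsEffCartierIdeal I := by
  apply Groth.Agent.Divis.EffCartier.isEff_of_forall_comap
  intro y
  obtain ⟨i, w, hw⟩ := 𝒰.exists_eq y
  exact ⟨_, 𝒰.f i, inferInstance, ⟨w, hw⟩, h i⟩

lemma isEff_sigmaIdeal {σ : Type u} (X : σ → Scheme.{u}) (I : ∀ i, (X i).IdealSheafData)
    (h : ∀ i, BlowUp.IsEffCartierIdeal (I i)) : BlowUp.IsEffCartierIdeal (sigmaIdeal X I) := by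
  refine isEff_of_openCover (sigmaOpenCover X) fun i => ?_
  have := comap_sigmaIdeal X I i
  change BlowUp.IsEffCartierIdeal ((sigmaIdeal X I).comap (Sigma.ι X i))
  rw [this]
  exact h i

lemma isAmbient_of_sigma {σ : Type u} (X : σ → Scheme.{u}) (I : ∀ i, (X i).IdealSheafData) {J : Y.IdealSheafData}
    (f : ∐ X ⟶ Y) (h : ∀ i, IsAmbient (I i) J (Sigma.ι X i ≫ f)) : IsAmbient (sigmaIdeal X I) J f := by
  have h' : ∀ i : σ, (sigmaIdeal X I).comap (Sigma.ι X i) ≤ (J.comap f).comap (Sigma.ι X i) := fun i => by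
    rw [comap_sigmaIdeal, ← Scheme.IdealSheafData.comap_comp]
    exact h i
  exact le_of_openCover (sigmaOpenCover X) h'

/-- The coproduct of a family of modulus pairs. -/
noncomputable def sigmaPair {σ : Type u} (P : σ → Pair.{u}) : Pair.{u} where
  total := ∐ fun i => (P i).total
  mod := sigmaIdeal (fun i => (P i).total) fun i => (P i).mod
  isEffCartier := isEff_sigmaIdeal _ _ fun i => (P i).isEffCartier

noncomputable def sigmaι {σ : Type u} (P : σ → Pair.{u}) (i : σ) : P i ⟶ sigmaPair P where
  hom := Sigma.ι (fun i => (P i).total) i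
  cond := (comap_sigmaIdeal (fun i => (P i).total) (fun i => (P i).mod) i).ge

lemma sigmaι_minimal {σ : Type u} (P : σ → Pair.{u}) (i : σ) :
    IsMinimal (P i).mod (sigmaPair P).mod (sigmaι P i).hom :=
  (comap_sigmaIdeal (fun i => (P i).total) (fun i => (P i).mod) i).symm

noncomputable def sigmaDesc {σ : Type u} (P : σ → Pair.{u}) {Q : Pair.{u}} (f : ∀ i, P i ⟶ Q) : sigmaPair P ⟶ Q where
  hom := Sigma.desc fun i => (f i).hom
  cond := by
    refine isAmbient_of_sigma _ _ _ fun i => ?_
    have : Sigma.ι (fun i => (P i).total) i ≫ (Sigma.desc fun i => (f i).hom) = (f i).hom := Sigma.ι_desc _ _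
    rw [this]
    exact (f i).cond

/-- The coproduct cofan. -/
noncomputable def pairCofan {σ : Type u} (P : σ → Pair.{u}) : Cofan P := Cofan.mk (sigmaPair P) (sigmaι P)

noncomputable def pairCofan_isColimit {σ : Type u} (P : σ → Pair.{u}) : IsColimit (pairCofan P) :=
  Cofan.IsColimit.mk _ (fun s => sigmaDesc P s.inj)
    (fun s i => Pair.Hom.ext (Sigma.ι_desc (fun i => (s.inj i).hom) i))
    (fun s m h => by
      apply Pair.Hom.ext
      refine Sigma.hom_ext (f := fun i => (P i).total) _ _ fun i => ?_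
      have h1 : Sigma.ι (fun i => (P i).total) i ≫ m.hom = (s.inj i).hom := congrArg Pair.Hom.hom (h i)
      refine h1.trans ?_
      exact (Sigma.ι_desc (fun i => (s.inj i).hom) i).symm)

theorem hasColimitsOfShape (σ : Type u) : HasColimitsOfShape (Discrete σ) Pair.{u} := by
  have : HasCoproductsOfShape σ Pair.{u} := by
    refine ⟨fun K => ?_⟩
    have : HasColimit (Discrete.functor (K.obj ∘ Discrete.mk)) := ⟨⟨⟨_, pairCofan_isColimit fun i => K.obj ⟨i⟩⟩⟩⟩
    exact hasColimit_of_iso (Discrete.natIsoFunctor (F := K))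
  exact this

theorem preserves (σ : Type u) : PreservesColimitsOfShape (Discrete σ) Pair.forget.{u} where
  preservesColimit {K} := by
    have h1 : PreservesColimit (Discrete.functor (K.obj ∘ Discrete.mk)) Pair.forget.{u} := by
      apply preservesColimit_of_preserves_colimit_cocone (pairCofan_isColimit fun i => K.obj ⟨i⟩)
      refine (isColimitMapCoconeCofanMkEquiv Pair.forget _ _).symm ?_
      exact coproductIsCoproduct _
    exact preservesColimit_of_iso_diagram _ (Discrete.natIsoFunctor (F := K)).symm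

end K971.Coprod
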