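import Groth.Agent.ModPair.K971.MProd
import Mathlib.AlgebraicGeometry.Morphisms.Finite
import Mathlib.AlgebraicGeometry.Morphisms.IsIso

/-!
# Closures of the two pieces of a decomposition of the interior

* `isIso_restrict_iSup`: `f` is an isomorphism over `⨆ U i` if it is so over every `U i`.
* `isIso_restrict_sup`.
* `isIso_morphismRestrict_of_le_opensRange`.
* `quasiCompact_of_sup`: a clopen piece of a quasi-compact open.
* `decomp`: S18737.
-/

set_option autoImplicit false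

universe u

open CategoryTheory CategoryTheory.Limits AlgebraicGeometry TopologicalSpace

namespace K971.Decomp

open ModPair K971.Basic K971.MProd

variable {X Y Z W S T P : Scheme.{u}}

theorem isIso_restrict_iSup {f : X ⟶ Y} {ι : Type*} (U : ι → Y.Opens) (h : ∀ i, IsIso (f ∣_ U i)) :
    IsIso (f ∣_ ⨆ i, U i) := by
  refine IsZariskiLocalAtTarget.of_iSup_eq_top (P := MorphismProperty.isomorphisms Scheme.{u})
    (fun i => (⨆ i, U i).ι ⁻¹ᵁ U i) ?_ ?_
  · apply (⨆ i, U i).ι.image_injective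
    dsimp
    rw [Scheme.Hom.image_iSup, Scheme.Hom.image_top_eq_opensRange, Scheme.Opens.opensRange_ι]
    simp [Scheme.Hom.image_preimage_eq_opensRange_inf, le_iSup U]
  · intro i
    rw [(MorphismProperty.isomorphisms Scheme.{u}).arrow_mk_iso_iff (morphismRestrictRestrict f _ _)]
    have e : (⨆ i, U i).ι ''ᵁ (⨆ i, U i).ι ⁻¹ᵁ U i = U i := by
      rw [Scheme.Hom.image_preimage_eq_opensRange_inf, Scheme.Opens.opensRange_ι]
      exact inf_eq_right.2 (le_iSup U i)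
    have e' : ∀ V : Y.Opens, V = U i → IsIso (f ∣_ V) := by
      rintro V rfl
      exact h i
    exact e' _ e

theorem isIso_restrict_sup {f : X ⟶ Y} (U V : Y.Opens) (h : IsIso (f ∣_ U)) (h' : IsIso (f ∣_ V)) :
    IsIso (f ∣_ (U ⊔ V)) := by
  have h2 : IsIso (f ∣_ ⨆ i : Bool, (Bool.rec V U i : Y.Opens)) := by
    apply isIso_restrict_iSup
    rintro (_ | _)
    · exact h'
    · exact h
  have e : (⨆ i : Bool, (Bool.rec V U i : Y.Opens)) = U ⊔ V := by
    rw [iSup_bool_eq]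
  rwa [e] at h2

theorem isIso_morphismRestrict_of_le_opensRange (j : X ⟶ Y) [IsOpenImmersion j] (O : Y.Opens)
    (h : O ≤ j.opensRange) : IsIso (j ∣_ O) := by
  rw [isIso_iff_isOpenImmersion_and_surjective]
  refine ⟨inferInstance, ⟨fun y => ?_⟩⟩
  obtain ⟨x, hx⟩ := h y.2
  refine ⟨⟨x, by change j x ∈ O; rw [hx]; exact y.2⟩, ?_⟩
  apply Subtype.ext
  exact (morphismRestrict_base_coe j O _).trans hx

/-- a clopen piece of a retrocompact open is retrocompact -/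
theorem quasiCompact_of_sup {U₀ U₁ V : X.Opens} (hU : U₀ ⊔ U₁ = V) (hd : Disjoint U₀ U₁) [QuasiCompact V.ι] :
    QuasiCompact U₀.ι := by
  rw [quasiCompact_iff_forall_isAffineOpen]
  intro W hW
  rw [U₀.ι.isOpenEmbedding.isInducing.isCompact_iff]
  have h1 : IsCompact (V.ι '' ((V.ι ⁻¹ᵁ W : Scheme.Opens _) : Set (V : Scheme.{u}))) :=
    (V.ι.isCompact_preimage hW.isCompact).image V.ι.continuous
  have h2 : U₀.ι '' ((U₀.ι ⁻¹ᵁ W : Scheme.Opens _) : Set (U₀ : Scheme.{u})) =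
      V.ι '' ((V.ι ⁻¹ᵁ W : Scheme.Opens _) : Set (V : Scheme.{u})) ∩ (U₁ : Set X)ᶜ := by
    ext x
    constructor
    · rintro ⟨y, hy, rfl⟩
      have hy0 : U₀.ι y ∈ U₀ := y.2
      have hyV : U₀.ι y ∈ V := hU ▸ (Or.inl hy0)
      refine ⟨⟨⟨U₀.ι y, hyV⟩, hy, rfl⟩, fun h => ?_⟩
      exact (Opens.mem_bot.1 ((disjoint_iff.1 hd).le ⟨hy0, h⟩)).elim
    · rintro ⟨⟨y, hy, rfl⟩, hx⟩
      have hyV : V.ι y ∈ U₀ ⊔ U₁ := by rw [hU]; exact y.2
      rcases hyV with h | h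
      · exact ⟨⟨V.ι y, h⟩, hy, rfl⟩
      · exact absurd h hx
  rw [h2]
  exact h1.inter_right U₁.2.isClosed_compl

lemma disjoint_image {U₀ U₁ : X.Opens} (hd : Disjoint U₀ U₁) [QuasiCompact U₁.ι] (x : U₁.ι.image) :
    U₁.ι.imageι x ∉ U₀ := by
  intro hx
  have h1 : U₁.ι.imageι x ∈ closure (U₁ : Set X) := by
    have h2 : U₁.ι.imageι x ∈ Set.range U₁.ι.imageι := ⟨x, rfl⟩
    rw [Scheme.IdealSheafData.range_subschemeι, Scheme.Hom.support_ker, Scheme.Opens.range_ι] at h2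
    exact h2
  obtain ⟨y, hy0, hy1⟩ := mem_closure_iff.1 h1 _ U₀.2 hx
  exact (Opens.mem_bot.1 ((disjoint_iff.1 hd).le ⟨hy0, hy1⟩)).elim

/-- over `U₀` the map `X₀ ⨿ X₁ ⟶ X` is an isomorphism -/
lemma isIso_restrict_inl {X₀ X₁ : Scheme.{u}} (a : X₀ ⟶ X) (b : X₁ ⟶ X) (U : X.Opens) [IsIso (a ∣_ U)]
    (hb : ∀ x, b x ∉ U) : IsIso (coprod.desc a b ∣_ U) := by
  have hle : coprod.desc a b ⁻¹ᵁ U ≤ (coprod.inl : X₀ ⟶ X₀ ⨿ X₁).opensRange := by
    intro x hx
    obtain ⟨y, rfl⟩ := (coprodMk X₀ X₁).surjective x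
    rcases y with y | y
    · rw [coprodMk_inl]
      exact ⟨y, rfl⟩
    · exfalso
      rw [coprodMk_inr] at hx
      have hx' : coprod.desc a b ((coprod.inr : X₁ ⟶ X₀ ⨿ X₁) y) ∈ U := hx
      rw [← Scheme.Hom.comp_apply, coprod.inr_desc] at hx'
      exact hb y hx'
  have h1 : IsIso ((coprod.inl : X₀ ⟶ X₀ ⨿ X₁) ∣_ (coprod.desc a b ⁻¹ᵁ U)) :=
    isIso_morphismRestrict_of_le_opensRange _ _ hle
  have h2 : IsIso (((coprod.inl : X₀ ⟶ X₀ ⨿ X₁) ≫ coprod.desc a b) ∣_ U) := by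
    rw [coprod.inl_desc]
    infer_instance
  rw [morphismRestrict_comp] at h2
  exact @IsIso.of_isIso_comp_left _ _ _ _ _ _ _ h1 h2

/-- over `U` the map `X₀ ⨿ X₁ ⟶ X` is an isomorphism if `X₁ ⟶ X` is so and `X₀` misses `U` -/
lemma isIso_restrict_inr {X₀ X₁ : Scheme.{u}} (a : X₀ ⟶ X) (b : X₁ ⟶ X) (U : X.Opens) [IsIso (b ∣_ U)]
    (ha : ∀ x, a x ∉ U) : IsIso (coprod.desc a b ∣_ U) := by
  have hle : coprod.desc a b ⁻¹ᵁ U ≤ (coprod.inr : X₁ ⟶ X₀ ⨿ X₁).opensRange := by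
    intro x hx
    obtain ⟨y, rfl⟩ := (coprodMk X₀ X₁).surjective x
    rcases y with y | y
    · exfalso
      rw [coprodMk_inl] at hx
      have hx' : coprod.desc a b ((coprod.inl : X₀ ⟶ X₀ ⨿ X₁) y) ∈ U := hx
      rw [← Scheme.Hom.comp_apply, coprod.inl_desc] at hx'
      exact ha y hx'
    · rw [coprodMk_inr]
      exact ⟨y, rfl⟩
  have h1 : IsIso ((coprod.inr : X₁ ⟶ X₀ ⨿ X₁) ∣_ (coprod.desc a b ⁻¹ᵁ U)) :=
    isIso_morphismRestrict_of_le_opensRange _ _ hle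
  have h2 : IsIso (((coprod.inr : X₁ ⟶ X₀ ⨿ X₁) ≫ coprod.desc a b) ∣_ U) := by
    rw [coprod.inr_desc]
    infer_instance
  rw [morphismRestrict_comp] at h2
  exact @IsIso.of_isIso_comp_left _ _ _ _ _ _ _ h1 h2

/-- Decomposing the interior of a modulus pair: the closures of the pieces give an abstract admissible blow-up. -/
theorem decomp (I : X.IdealSheafData) (hI : BlowUp.IsEffCartierIdeal I) (U₀ U₁ : X.Opens)
    (hU : U₀ ⊔ U₁ = interior I) (hd : Disjoint U₀ U₁) :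
    BlowUp.IsEffCartierIdeal (I.comap (coprod.desc U₀.ι.imageι U₁.ι.imageι)) ∧
      IsAdmBlowup (I.comap (coprod.desc U₀.ι.imageι U₁.ι.imageι)) I (coprod.desc U₀.ι.imageι U₁.ι.imageι) := by
  have hq := quasiCompact_interior hI
  have hq0 : QuasiCompact U₀.ι := quasiCompact_of_sup hU hd
  have hq1 : QuasiCompact U₁.ι := quasiCompact_of_sup (V := interior I) (by rw [sup_comm]; exact hU) hd.symm
  refine ⟨?_, rfl, inferInstance, ?_⟩
  · apply Groth.Agent.Divis.EffCartier.isEff_of_forall_comap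
    intro x
    obtain ⟨y, rfl⟩ := (coprodMk _ _).surjective x
    rcases y with y | y
    · refine ⟨_, coprod.inl, inferInstance, ?_, ?_⟩
      · rw [coprodMk_inl]
        exact ⟨y, rfl⟩
      · rw [← Scheme.IdealSheafData.comap_comp, coprod.inl_desc]
        exact isEff_comap_imageι (locPrin_of_isEff hI) (hU ▸ le_sup_left)
    · refine ⟨_, coprod.inr, inferInstance, ?_, ?_⟩
      · rw [coprodMk_inr]
        exact ⟨y, rfl⟩
      · rw [← Scheme.IdealSheafData.comap_comp, coprod.inr_desc]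
        exact isEff_comap_imageι (locPrin_of_isEff hI) (hU ▸ le_sup_right)
  · rw [← hU]
    have i0 := isIso_imageι_restrict U₀
    have i1 := isIso_imageι_restrict U₁
    exact isIso_restrict_sup _ _ (isIso_restrict_inl _ _ U₀ (disjoint_image hd))
      (isIso_restrict_inr _ _ U₁ (disjoint_image hd.symm))

end K971.Decomp
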