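import Groth.Agent.ModPair.K971.PairCat
import Mathlib.AlgebraicGeometry.Morphisms.Immersion

/-!
# Abstract admissible blow-ups are epimorphisms

* `hom_ext_of_surjective_dominant`: a surjective schematically dominant morphism is an epimorphism of schemes.
* `surjective_of_admBlowup`, `dominant_of_admBlowup`, `epi_of_admBlowup`.
* `faithful`: localization at abstract admissible blow-ups is faithful.
* `dominant_of_square`.
-/

set_option autoImplicit false

universe u v₂ u₂

open CategoryTheory CategoryTheory.Limits AlgebraicGeometry TopologicalSpace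

namespace K971.EpiDom

open ModPair K971.Basic K971.MProd K971.PairCat

variable {X Y Z W S T P : Scheme.{u}}

theorem hom_ext_of_surjective_dominant (f : X ⟶ Y) [Surjective f] [IsSchemeTheoreticallyDominant f] {a b : Y ⟶ Z}
    (h : f ≫ a = f ≫ b) : a = b := by
  have h1 : equalizer.lift f h ≫ equalizer.ι a b = f := equalizer.lift_ι _ _
  have hs : Surjective (equalizer.ι a b) := by
    have : Surjective (equalizer.lift f h ≫ equalizer.ι a b) := by rw [h1]; infer_instance
    exact .of_comp (equalizer.lift f h) _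
  have hc : IsClosedImmersion (equalizer.ι a b) := by
    have h2 : Set.range (equalizer.ι a b) = Set.univ := hs.surj.range_eq
    exact IsClosedImmersion.of_isPreimmersion _ (by rw [h2]; exact isClosed_univ)
  have hiso : IsIso (equalizer.ι a b) := by
    rw [IsClosedImmersion.isIso_iff_ker_eq_bot, eq_bot_iff]
    have h3 := Scheme.Hom.le_ker_comp (equalizer.lift f h) (equalizer.ι a b)
    rw [h1, f.ker_eq_bot] at h3
    exact h3
  rw [← cancel_epi (equalizer.ι a b)]
  exact equalizer.condition a b

/-- the section of an abstract admissible blow-up over the interior -/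
theorem exists_section {I : X.IdealSheafData} {J : Y.IdealSheafData} (hI : BlowUp.IsEffCartierIdeal I) {s : X ⟶ Y}
    (hs : IsAdmBlowup I J s) :
    ∃ σ : (interior J : Scheme.{u}) ⟶ X, σ ≫ s = (interior J).ι ∧ IsSchemeTheoreticallyDominant σ := by
  obtain ⟨h1, h2, h3⟩ := hs
  refine ⟨inv (s ∣_ interior J) ≫ (s ⁻¹ᵁ interior J).ι, ?_, ?_⟩
  · rw [Category.assoc, ← morphismRestrict_ι, IsIso.inv_hom_id_assoc]
  · have : IsSchemeTheoreticallyDominant (s ⁻¹ᵁ interior J).ι := by
      rw [← minimal_interior_eq h1]
      exact dominant_interior hI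
    infer_instance

theorem dominant_of_admBlowup {I : X.IdealSheafData} {J : Y.IdealSheafData} (hI : BlowUp.IsEffCartierIdeal I)
    (hJ : BlowUp.IsEffCartierIdeal J) {s : X ⟶ Y} (hs : IsAdmBlowup I J s) : IsSchemeTheoreticallyDominant s := by
  obtain ⟨σ, hσ, -⟩ := exists_section hI hs
  have := dominant_interior hJ
  have : IsSchemeTheoreticallyDominant (σ ≫ s) := by rw [hσ]; infer_instance
  exact dominant_of_comp σ s

theorem surjective_of_admBlowup {I : X.IdealSheafData} {J : Y.IdealSheafData} (hI : BlowUp.IsEffCartierIdeal I)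
    (hJ : BlowUp.IsEffCartierIdeal J) {s : X ⟶ Y} (hs : IsAdmBlowup I J s) : Surjective s := by
  have h1 := dominant_of_admBlowup hI hJ hs
  have h2 : IsProper s := hs.2.1
  have h3 : IsDominant s := inferInstance
  refine ⟨?_⟩
  rw [← Set.range_eq_univ, ← s.isClosedMap.isClosed_range.closure_eq]
  exact h3.denseRange.closure_range

/-- Abstract admissible blow-ups are epimorphisms of modulus pairs. -/
theorem epi_of_admBlowup {P Q : Pair.{u}} (s : P ⟶ Q) (hs : Pair.admBlowup s) : Epi s where
  left_cancellation := fun {R} f g h => by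
    apply Pair.Hom.ext
    have h1 := dominant_of_admBlowup P.isEffCartier Q.isEffCartier hs
    have h2 := surjective_of_admBlowup P.isEffCartier Q.isEffCartier hs
    refine hom_ext_of_surjective_dominant s.hom ?_
    have := congrArg Pair.Hom.hom h
    exact this

theorem eq_of_map_eq {D : Type u₂} [Category.{v₂} D] (L : Pair.{u} ⥤ D) [L.IsLocalization Pair.admBlowup.{u}]
    {P Q : Pair.{u}} (f g : P ⟶ Q) (h : L.map f = L.map g) : f = g := by
  rw [MorphismProperty.map_eq_iff_precomp L Pair.admBlowup.{u}] at h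
  obtain ⟨Z, t, ht, h3⟩ := h
  have := epi_of_admBlowup t ht
  exact (cancel_epi t).1 h3

/-- Schematic dominance lifts to admissible blow-ups. -/
theorem dominant_of_square {A B A' B' : Scheme.{u}} {IA : A.IdealSheafData} {IB : B.IdealSheafData}
    {IA' : A'.IdealSheafData} {IB' : B'.IdealSheafData} (hA' : BlowUp.IsEffCartierIdeal IA')
    (hB' : BlowUp.IsEffCartierIdeal IB') {q : A' ⟶ A} {r : B' ⟶ B}
    (hq : IsAdmBlowup IA' IA q) (hr : IsAdmBlowup IB' IB r) (f : A ⟶ B) (hf : IsMinimal IA IB f) (m : A' ⟶ B')
    (h : m ≫ r = q ≫ f) [IsSchemeTheoreticallyDominant f] [QuasiCompact f] : IsSchemeTheoreticallyDominant m := by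
  obtain ⟨σ, hσ, hσd⟩ := exists_section hA' hq
  obtain ⟨τ, hτ, hτd⟩ := exists_section hB' hr
  obtain ⟨ρ, hρ, hρd⟩ : ∃ ρ : (interior IA : Scheme.{u}) ⟶ (interior IB : Scheme.{u}),
      ρ ≫ (interior IB).ι = (interior IA).ι ≫ f ∧ IsSchemeTheoreticallyDominant ρ := by
    have hU : interior IA = f ⁻¹ᵁ interior IB := minimal_interior_eq hf
    generalize interior IA = U at hU
    subst hU
    exact ⟨f ∣_ interior IB, morphismRestrict_ι _ _,
      IsSchemeTheoreticallyDominant.of_isPullback (isPullback_morphismRestrict f (interior IB)).flip⟩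
  have hri : IsIso (r ∣_ interior IB) := hr.2.2
  have h1 : σ ≫ m = ρ ≫ τ := by
    refine Groth.Agent.Flat2C.ClosureIso.eq_of_mono_restrict (φ := r) (interior IB) ?_ ?_
    · rw [Category.assoc, h, ← Category.assoc, hσ, Category.assoc, hτ, hρ]
    · intro t
      rw [← Scheme.Hom.comp_apply, Category.assoc, h, ← Category.assoc, hσ, ← hρ]
      exact (ρ t).2
  have : IsSchemeTheoreticallyDominant (σ ≫ m) := by rw [h1]; infer_instance
  exact dominant_of_comp σ m

end K971.EpiDom
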