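import Groth.Agent.ModPair.K971.PairCat
import Groth.Agent.ModPair.K972.AmbPull
import Groth.Agent.ModPair.K972.AmbProd
import Mathlib.CategoryTheory.Limits.Constructions.FiniteProductsOfBinaryProducts
import Mathlib.CategoryTheory.Limits.Constructions.LimitsOfProductsAndEqualizers
import Mathlib.CategoryTheory.Localization.CalculusOfFractions.Fractions

/-!
# Finite limits in the localised category of modulus pairs
-/

set_option autoImplicit false
universe u v u₁ v₁ u₂ v₂
open CategoryTheory CategoryTheory.Limits AlgebraicGeometry TopologicalSpace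

namespace K971.FinLim

section abstract

variable {C : Type u₁} [Category.{v₁} C] {D : Type u₂} [Category.{v₂} D] (L : C ⥤ D) (W : MorphismProperty C)
  [L.IsLocalization W] [W.HasRightCalculusOfFractions]

include W in
theorem exists_arrow_iso {A Z : D} (a : A ⟶ Z) {P : C} (e : L.obj P ≅ Z) :
    ∃ (X' : C) (f : X' ⟶ P) (e' : L.obj X' ≅ A), L.map f ≫ e.hom = e'.hom ≫ a := by
  have := Localization.essSurj L W
  let e₀ := L.objObjPreimageIso A
  obtain ⟨φ, hφ⟩ := Localization.exists_rightFraction L W (e₀.hom ≫ a ≫ e.inv)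
  have := Localization.inverts L W φ.s φ.hs
  refine ⟨φ.X', φ.f, asIso (L.map φ.s) ≪≫ e₀, ?_⟩
  have h1 := φ.map_s_comp_map L (Localization.inverts L W)
  rw [← hφ] at h1
  rw [← h1]
  simp

include W in
theorem hasPullbacks (h : ∀ {X Y Z : C} (f : X ⟶ Z) (g : Y ⟶ Z), HasPullback (L.map f) (L.map g)) :
    HasPullbacks D := by
  have := Localization.essSurj L W
  apply +allowSynthFailures hasPullbacks_of_hasLimit_cospan
  intro X Y Z f g
  let e₀ := L.objObjPreimageIso Z
  obtain ⟨X', f', e₁, h₁⟩ := exists_arrow_iso L W f e₀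
  obtain ⟨Y', g', e₂, h₂⟩ := exists_arrow_iso L W g e₀
  have := h f' g'
  exact hasLimit_of_iso (cospanExt e₁ e₂ e₀ h₁.symm h₂.symm)

include L W in
theorem hasTerminal {T : C} (hT : IsTerminal T) : HasTerminal D := by
  have := Localization.essSurj L W
  have key : ∀ (A : D) (a b : A ⟶ L.obj T), a = b := by
    intro A a b
    let e₀ := L.objObjPreimageIso A
    rw [← cancel_epi e₀.hom]
    obtain ⟨φ, h1⟩ := Localization.exists_rightFraction L W (e₀.hom ≫ a)
    obtain ⟨ψ, h2⟩ := Localization.exists_rightFraction L W (L.map φ.s ≫ e₀.hom ≫ b)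
    have := Localization.inverts L W φ.s φ.hs
    have := Localization.inverts L W ψ.s ψ.hs
    have h3 := φ.map_s_comp_map L (Localization.inverts L W)
    have h4 := ψ.map_s_comp_map L (Localization.inverts L W)
    rw [← h1] at h3
    rw [← h2] at h4
    rw [← cancel_epi (L.map φ.s), ← cancel_epi (L.map ψ.s), h3, h4, ← L.map_comp, hT.hom_ext (ψ.s ≫ φ.f) ψ.f]
  exact IsTerminal.hasTerminal (X := L.obj T) (IsTerminal.ofUniqueHom
    (fun A => (L.objObjPreimageIso A).inv ≫ L.map (hT.from _)) (fun A m => key A _ _))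

end abstract

open ModPair

theorem isEff_top (X : Scheme.{u}) : BlowUp.IsEffCartierIdeal (⊤ : X.IdealSheafData) := by
  intro x
  have h1 : x ∈ ⨆ U : X.affineOpens, (U : X.Opens) := by
    rw [iSup_affineOpens_eq_top]; trivial
  obtain ⟨U, hU⟩ := Opens.mem_iSup.1 h1
  exact ⟨U, hU, 1, Submonoid.one_mem _, by
    rw [Scheme.IdealSheafData.ideal_top, Pi.top_apply, Ideal.span_singleton_one]⟩

/-- the terminal modulus pair -/
noncomputable def terminalPair : Pair.{u} := ⟨Spec (.of (ULift.{u} ℤ)), ⊤, isEff_top _⟩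

/-- it is terminal -/
noncomputable def isTerminal : IsTerminal terminalPair.{u} :=
  IsTerminal.ofUniqueHom (fun P => ⟨specULiftZIsTerminal.from P.total, by
      change _ ≤ _
      rw [show terminalPair.mod = ⊤ from rfl, Scheme.IdealSheafData.comap_top]
      exact le_top⟩)
    (fun P m => Pair.Hom.ext (specULiftZIsTerminal.hom_ext _ _))

theorem hasFiniteLimits : HasFiniteLimits (Pair.admBlowup.{u}).Localization := by
  have := K971.PairCat.hasRightCalculus.{u}
  have h1 : HasTerminal (Pair.admBlowup.{u}).Localization :=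
    hasTerminal (Pair.admBlowup.{u}).Q Pair.admBlowup.{u} isTerminal
  have h2 : HasPullbacks (Pair.admBlowup.{u}).Localization := by
    refine hasPullbacks (Pair.admBlowup.{u}).Q Pair.admBlowup.{u} fun {X Y Z} f g => ?_
    obtain ⟨W, π, K, hK⟩ := K972.AmbProd.exists_isAmbProd g.hom f.hom Y.mod X.mod
    exact (K972.AmbPull.isPullback Z X Y g f π K hK (Pair.admBlowup.{u}).Q
      (K972.AmbProd.isEff_of_isAmbProd hK Y.isEffCartier X.isEffCartier)
      (K972.AmbProd.isAmbient_fst hK) (K972.AmbProd.isAmbient_snd hK)).hasPullback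
  exact hasFiniteLimits_of_hasTerminal_and_pullbacks

end K971.FinLim
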