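import Groth.Agent.ModPair.K971.MProd
import Groth.Agent.Flat2C.TorsIdeal
import Groth.Agent.Flat2C.BlowProper
import Groth.Agent.Divis.BlowUpFormal
import Groth.Agent.S1273
import Groth.Agent.S10855

/-!
# Admissible blow-ups of flat covers are dominated by pull-backs of admissible blow-ups of the base
-/

set_option autoImplicit false
universe u
open CategoryTheory CategoryTheory.Limits AlgebraicGeometry TopologicalSpace

namespace K971.FlatBlow

open ModPair K971.Basic K971.MProd Groth.Agent.Divis.IdealComap Groth.Agent.Divis.EffCartier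
  Groth.Agent.Flat2C.TorsIdeal

theorem main {X Y Y' : Scheme.{u}} [CompactSpace X]
    [QuasiSeparatedSpace X] (IX : X.IdealSheafData) (IY : Y.IdealSheafData) (IY' : Y'.IdealSheafData)
    (hX : BlowUp.IsEffCartierIdeal IX) (u : Y ⟶ X) (hu : ModPair.IsMinimal IY IX u) [Flat u]
    [LocallyOfFinitePresentation u] [QuasiCompact u] [QuasiSeparated u]
    (b : Y' ⟶ Y) (hb : ModPair.IsAdmBlowup IY' IY b) :
    ∃ (X' : Scheme.{u}) (IX' : X'.IdealSheafData) (a : X' ⟶ X) (V : Scheme.{u})
      (IV : V.IdealSheafData) (v : V ⟶ X') (w : V ⟶ Y'),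
      BlowUp.IsEffCartierIdeal IX' ∧ ModPair.IsAdmBlowup IX' IX a ∧
        BlowUp.IsEffCartierIdeal IV ∧ ModPair.IsMinimal IV IX' v ∧ Flat v ∧
        LocallyOfFinitePresentation v ∧ QuasiCompact v ∧ QuasiSeparated v ∧
        ModPair.IsAdmBlowup IV IY' w ∧ w ≫ b ≫ u = v ≫ a ∧
        (Surjective u → Surjective v) := by
  obtain ⟨hbm, hbp, hbi⟩ := hb
  have hUa : IsAffineHom (interior IX).ι := isAffineHom_interior hX
  have hUc : IsCompact ((interior IX : X.Opens) : Set X) := by
    have h1 := QuasiCompact.isCompact_preimage (f := (interior IX).ι)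
    have : CompactSpace (interior IX) := QuasiCompact.compactSpace_of_compactSpace (interior IX).ι
    exact isCompact_iff_compactSpace.2 this
  have hUY : u ⁻¹ᵁ interior IX = interior IY := (minimal_interior_eq hu).symm
  have hUY' : (b ≫ u) ⁻¹ᵁ interior IX = interior IY' := by
    rw [Scheme.Hom.comp_preimage, hUY]
    exact (minimal_interior_eq hbm).symm
  have hiso : IsIso (b ∣_ (u ⁻¹ᵁ interior IX)) := by rw [hUY]; exact hbi
  have hfU : (b ≫ u) ∣_ interior IX = b ∣_ (u ⁻¹ᵁ interior IX) ≫ u ∣_ interior IX := morphismRestrict_comp _ _ _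
  have : Flat ((b ≫ u) ∣_ interior IX) := by
    rw [hfU]
    exact MorphismProperty.comp_mem @Flat _ _ (inferInstanceAs (Flat (b ∣_ (u ⁻¹ᵁ interior IX)))) inferInstance
  have : LocallyOfFinitePresentation ((b ≫ u) ∣_ interior IX) := by
    rw [hfU]
    exact MorphismProperty.comp_mem @LocallyOfFinitePresentation _ _
      (inferInstanceAs (LocallyOfFinitePresentation (b ∣_ (u ⁻¹ᵁ interior IX)))) inferInstance
  obtain ⟨𝓘, X', a, ha, ⟨h𝓘, hdisj⟩, H⟩ := Groth.Agent.S1273.result (b ≫ u) (interior IX) hUc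
  have haiso : IsIso (a ∣_ interior IX) :=
    Groth.Agent.Divis.BlowUpFormal.isIso_morphismRestrict_compl_support ha _ hdisj.symm
  have haprop : IsProper a := Groth.Agent.Flat2C.BlowProper.isProper_of_isBlowUp ha h𝓘
  have hX' : BlowUp.IsEffCartierIdeal (IX.comap a) := Groth.Agent.Divis.BlowUpFormal.isEff_comap_of_isBlowUp ha hX
  let E := (𝓘.comap (b ≫ u)).comap (pullback.fst (b ≫ u) a)
  have hE : BlowUp.IsFiniteTypeIdeal E := isFiniteTypeIdeal_comap (isFiniteTypeIdeal_comap h𝓘 _) _
  have hqc : QuasiCompact (interior E).ι := quasiCompact_interior_ι hE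
  have hT := H _ (pullback.fst (b ≫ u) a) (pullback.snd (b ≫ u) a) (IsPullback.of_hasPullback _ _) (torsIdeal E)
    (isTorsIdeal_torsIdeal hE)
  let j : (interior E).ι.image ⟶ pullback (b ≫ u) a := (interior E).ι.imageι
  obtain ⟨h1, h2, h3, h4⟩ : Flat (j ≫ pullback.snd (b ≫ u) a) ∧ LocallyOfFinitePresentation (j ≫ pullback.snd (b ≫ u) a) ∧
    QuasiCompact (j ≫ pullback.snd (b ≫ u) a) ∧ QuasiSeparated (j ≫ pullback.snd (b ≫ u) a) := hT
  have hjc : IsClosedImmersion j := inferInstanceAs (IsClosedImmersion (interior E).ι.imageι)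
  have hji : IsIso (j ∣_ interior E) := isIso_imageι_restrict _
  have hUE : pullback.fst (b ≫ u) a ⁻¹ᵁ interior IY' ≤ interior E := by
    have h5 : interior IX ≤ interior 𝓘 := fun x hx hx' => Set.disjoint_left.1 hdisj hx' hx
    rw [show interior E = _ from rfl, interior_comap, interior_comap, ← hUY']
    exact Scheme.Hom.preimage_mono _ (Scheme.Hom.preimage_mono _ h5)
  have hp₁ : IsIso (pullback.fst (b ≫ u) a ∣_ interior IY') :=
    isIso_restrict_of_isPullback (IsPullback.of_hasPullback (b ≫ u) a).flip (interior IX) (interior IY') hUY'.ge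
  have hji' : IsIso (j ∣_ (pullback.fst (b ≫ u) a ⁻¹ᵁ interior IY')) := isIso_restrict_of_le hUE
  have hw : (j ≫ pullback.fst (b ≫ u) a) ≫ b ≫ u = (j ≫ pullback.snd (b ≫ u) a) ≫ a := by
    rw [Category.assoc, Category.assoc, pullback.condition]
  refine ⟨X', IX.comap a, a, (interior E).ι.image, (IX.comap a).comap (j ≫ pullback.snd (b ≫ u) a),
    j ≫ pullback.snd (b ≫ u) a, j ≫ pullback.fst (b ≫ u) a, hX', ⟨rfl, haprop, haiso⟩,
    Groth.Agent.S10855.result _ _ hX', rfl, h1, h2, h3, h4, ⟨?_, inferInstance, ?_⟩, hw, fun hu' => ?_⟩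
  · change _ = _
    rw [hbm, hu, ← Scheme.IdealSheafData.comap_comp, ← Scheme.IdealSheafData.comap_comp,
      ← Scheme.IdealSheafData.comap_comp, Category.assoc _ b u, hw]
  · have h5 : (j ≫ pullback.fst (b ≫ u) a) ∣_ interior IY' =
        j ∣_ (pullback.fst (b ≫ u) a ⁻¹ᵁ interior IY') ≫ pullback.fst (b ≫ u) a ∣_ interior IY' :=
      morphismRestrict_comp _ _ _
    rw [h5]
    exact IsIso.comp_isIso' hji' hp₁
  · -- surjectivity
    let m : pullback (b ≫ u) a ⟶ pullback u a := pullback.lift (pullback.fst (b ≫ u) a ≫ b) (pullback.snd (b ≫ u) a)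
      (by rw [Category.assoc, pullback.condition])
    have hm1 : m ≫ pullback.snd u a = pullback.snd (b ≫ u) a := pullback.lift_snd _ _ _
    have hm2 : m ≫ pullback.fst u a = pullback.fst (b ≫ u) a ≫ b := pullback.lift_fst _ _ _
    have hmp : IsPullback m (pullback.fst (b ≫ u) a) (pullback.fst u a) b := by
      refine IsPullback.of_right (h₁₂ := pullback.snd u a) (v₁₃ := a) (h₂₂ := u) ?_ hm2
        (IsPullback.of_hasPullback u a).flip
      rw [hm1]
      exact (IsPullback.of_hasPullback (b ≫ u) a).flip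
    have hmprop : IsProper m := MorphismProperty.of_isPullback (P := @IsProper) hmp.flip hbp
    let Z₀ : (pullback u a).Opens := pullback.fst u a ⁻¹ᵁ interior IY
    have hZ₀ : Z₀ = interior ((IX.comap a).comap (pullback.snd u a)) := by
      rw [interior_comap, interior_comap, ← Scheme.Hom.comp_preimage, ← pullback.condition, Scheme.Hom.comp_preimage,
        hUY]
    have hZd : Dense (Z₀ : Set (pullback u a : Scheme.{u})) := by
      rw [hZ₀]
      exact dense_interior (Groth.Agent.S10855.result _ _ hX')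
    have hmi : IsIso (m ∣_ Z₀) := isIso_restrict_of_isPullback hmp.flip.flip.flip (interior IY) Z₀ le_rfl
    have hji2 : IsIso (j ∣_ (m ⁻¹ᵁ Z₀)) := by
      refine isIso_restrict_of_le (U := interior E) ?_
      refine le_trans (le_of_eq ?_) hUE
      rw [← Scheme.Hom.comp_preimage, hm2, Scheme.Hom.comp_preimage, ← minimal_interior_eq hbm]
    have hjm : IsIso ((j ≫ m) ∣_ Z₀) := by
      have h5 : (j ≫ m) ∣_ Z₀ = j ∣_ (m ⁻¹ᵁ Z₀) ≫ m ∣_ Z₀ := morphismRestrict_comp _ _ _
      rw [h5]
      exact IsIso.comp_isIso' hji2 hmi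
    have hsurj : Surjective (j ≫ m) := by
      refine ⟨?_⟩
      rw [← Set.range_eq_univ, ← (j ≫ m).isClosedMap.isClosed_range.closure_eq, ← Set.univ_subset_iff]
      rw [← hZd.closure_eq]
      refine closure_mono fun z hz => ?_
      obtain ⟨y, hy⟩ := ((j ≫ m) ∣_ Z₀).surjective ⟨z, hz⟩
      refine ⟨((j ≫ m) ⁻¹ᵁ Z₀).ι y, ?_⟩
      rw [← Scheme.Hom.comp_apply, ← morphismRestrict_ι, Scheme.Hom.comp_apply, hy]
      rfl
    have h6 : j ≫ pullback.snd (b ≫ u) a = (j ≫ m) ≫ pullback.snd u a := by rw [Category.assoc, hm1]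
    rw [h6]
    infer_instance

end K971.FlatBlow
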