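import Groth.Agent.ModPair.K971.Basic
import Mathlib.AlgebraicGeometry.AffineTransitionLimit

/-!
# Cofiltered limits with affine transition maps: sections, dominance, effective Cartier ideals

* `exists_app_eq_affine`, `exists_app_eq`.
* `mem_nonZeroDivisors_of_isEff`.
* `isEff_limit`: S18744.
* `dominant_π`: projections of a limit with schematically dominant transition maps are schematically dominant.
* `exists_le_comap`: the inequality `J ≤ K` of ideal sheaves (J of finite type) descends.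
-/

set_option autoImplicit false

universe u

open CategoryTheory CategoryTheory.Limits AlgebraicGeometry TopologicalSpace

namespace K971.LimBasic

open ModPair K971.Basic Groth.Agent.Divis.IdealComap Groth.Agent.Divis.EffCartier

/-! ### appLE bookkeeping -/

section appLE

variable {X Y Z : Scheme.{u}}

theorem appLE_appLE (f : X ⟶ Y) (g : Y ⟶ Z) {U : Z.Opens} {V : Y.Opens} {W : X.Opens} (e₁ : V ≤ g ⁻¹ᵁ U)
    (e₂ : W ≤ f ⁻¹ᵁ V) (t : Γ(Z, U)) :
    f.appLE V W e₂ (g.appLE U V e₁ t) = (f ≫ g).appLE U W (e₂.trans (f.preimage_mono e₁)) t := by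
  rw [← ConcreteCategory.comp_apply, Scheme.Hom.appLE_comp_appLE]

theorem appLE_congr_hom {f f' : X ⟶ Y} (h : f = f') {U : Y.Opens} {V : X.Opens} (e : V ≤ f ⁻¹ᵁ U)
    (t : Γ(Y, U)) : f.appLE U V e t = f'.appLE U V (h ▸ e) t := by
  subst h; rfl

/-- A generator of an effective Cartier ideal on an affine open is a nonzerodivisor. -/
theorem mem_nonZeroDivisors_of_isEff {E : X.IdealSheafData} (hE : BlowUp.IsEffCartierIdeal E)
    (V : X.affineOpens) (a : Γ(X, V.1)) (h : E.ideal V = Ideal.span {a}) : a ∈ nonZeroDivisors Γ(X, V.1) := by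
  rw [mem_nonZeroDivisors_iff_right]
  intro x hx
  apply X.IsSheaf.section_ext
  intro y hy
  obtain ⟨U, hyU, hUV, f, hf, hfU⟩ := exists_princAt hE y V.1 hy
  refine ⟨U.1, hUV, hyU, ?_⟩
  have h1 := E.map_ideal (U := U) (V := V) hUV
  rw [h, hfU, Ideal.map_span, Set.image_singleton] at h1
  have h2 : f ∈ Ideal.span {(X.presheaf.map (homOfLE hUV).op).hom a} :=
    h1.ge (Ideal.mem_span_singleton_self f)
  obtain ⟨t, ht⟩ := Ideal.mem_span_singleton.1 h2
  have h3 : (X.presheaf.map (homOfLE hUV).op).hom a ∈ nonZeroDivisors Γ(X, U.1) := by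
    rw [ht] at hf
    exact (mul_mem_nonZeroDivisors.1 hf).1
  have h4 : (X.presheaf.map (homOfLE hUV).op).hom x * (X.presheaf.map (homOfLE hUV).op).hom a = 0 := by
    rw [← map_mul, hx, map_zero]
  rw [map_zero]
  exact mem_nonZeroDivisors_iff_right.1 h3 _ h4

end appLE

variable {I : Type u} [Category.{u} I] (D : I ⥤ Scheme.{u}) (c : Cone D)

theorem le_preimage {i j : I} (f : j ⟶ i) (U : (D.obj i).Opens) :
    c.π.app i ⁻¹ᵁ U ≤ c.π.app j ⁻¹ᵁ (D.map f ⁻¹ᵁ U) := by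
  rw [← Scheme.Hom.comp_preimage, c.w]

theorem preimage_preimage {i j : I} (f : j ⟶ i) (U : (D.obj i).Opens) :
    c.π.app j ⁻¹ᵁ (D.map f ⁻¹ᵁ U) = c.π.app i ⁻¹ᵁ U := by
  rw [← Scheme.Hom.comp_preimage, c.w]

variable {D c}

variable [IsCofiltered I] [∀ {i j} (f : i ⟶ j), IsAffineHom (D.map f)] (hc : IsLimit c)

include hc

set_option backward.isDefEq.respectTransparency false in
/-- Every section over (the preimage of) a compact open of a stage is defined at a later stage, provided all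
preimages are quasi-compact quasi-separated. -/
theorem exists_app_eq_aux {i : I} (U : (D.obj i).Opens) [∀ j : Over i, CompactSpace ((opensDiagram D i U).obj j)]
    [∀ j : Over i, QuasiSeparatedSpace ((opensDiagram D i U).obj j)] (s : Γ(c.pt, c.π.app i ⁻¹ᵁ U)) :
    ∃ (j : I) (f : j ⟶ i) (t : Γ(D.obj j, D.map f ⁻¹ᵁ U)),
      (c.π.app j).appLE (D.map f ⁻¹ᵁ U) (c.π.app i ⁻¹ᵁ U) (le_preimage D c f U) t = s := by
  obtain ⟨j, t, ht⟩ := exists_appTop_π_eq_of_isLimit _ _ (isLimitOpensCone D c hc i U)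
    ((c.π.app i ⁻¹ᵁ U).topIso.inv s)
  refine ⟨j.left, j.hom, (D.map j.hom ⁻¹ᵁ U).topIso.hom t, ?_⟩
  have h1 := congrArg (c.π.app i ⁻¹ᵁ U).topIso.hom ht
  have h2 : (c.π.app i ⁻¹ᵁ U).topIso.hom ((c.π.app i ⁻¹ᵁ U).topIso.inv s) = s := by
    rw [← ConcreteCategory.comp_apply, Iso.inv_hom_id]; rfl
  rw [h2] at h1
  rw [h1]
  change _ = (c.π.app i ⁻¹ᵁ U).topIso.hom (((c.π.app j.left).resLE (D.map j.hom ⁻¹ᵁ U) (c.π.app i ⁻¹ᵁ U)
    (le_preimage D c j.hom U)).appTop t)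
  rw [← ConcreteCategory.comp_apply, ← ConcreteCategory.comp_apply]
  congr 2
  rw [Scheme.Hom.appTop, Scheme.Hom.resLE_app_top, Category.assoc, Category.assoc, Iso.inv_hom_id,
    Category.comp_id]

theorem exists_app_eq_affine {i : I} (U : (D.obj i).Opens) (hU : IsAffineOpen U) (s : Γ(c.pt, c.π.app i ⁻¹ᵁ U)) :
    ∃ (j : I) (f : j ⟶ i) (t : Γ(D.obj j, D.map f ⁻¹ᵁ U)),
      (c.π.app j).appLE (D.map f ⁻¹ᵁ U) (c.π.app i ⁻¹ᵁ U) (le_preimage D c f U) t = s := by
  have (j : Over i) : IsAffine ((opensDiagram D i U).obj j) := hU.preimage (D.map j.hom)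
  exact exists_app_eq_aux hc U s

theorem exists_app_eq [∀ i, QuasiSeparatedSpace (D.obj i)] {i : I} (U : (D.obj i).Opens)
    (hU : IsCompact (U : Set (D.obj i))) (s : Γ(c.pt, c.π.app i ⁻¹ᵁ U)) :
    ∃ (j : I) (f : j ⟶ i) (t : Γ(D.obj j, D.map f ⁻¹ᵁ U)),
      (c.π.app j).appLE (D.map f ⁻¹ᵁ U) (c.π.app i ⁻¹ᵁ U) (le_preimage D c f U) t = s := by
  have (j : Over i) : CompactSpace ((opensDiagram D i U).obj j) :=
    isCompact_iff_compactSpace.mp (QuasiCompact.isCompact_preimage _ U.2 hU)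
  have (j : Over i) : QuasiSeparatedSpace ((opensDiagram D i U).obj j) :=
    (isQuasiSeparated_iff_quasiSeparatedSpace _ (D.map _ ⁻¹ᵁ _).2).mp (.of_quasiSeparatedSpace _)
  exact exists_app_eq_aux hc U s

/-- a section over a compact open of a stage vanishing in the limit vanishes at a later stage -/
theorem exists_appLE_eq_zero {i : I} {U : (D.obj i).Opens} (hU : IsCompact (U : Set (D.obj i))) (s : Γ(D.obj i, U))
    (V : c.pt.Opens) (hV : c.π.app i ⁻¹ᵁ U ≤ V) (hV' : V ≤ c.π.app i ⁻¹ᵁ U)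
    (h : (c.π.app i).appLE U V hV' s = 0) :
    ∃ (j : I) (f : j ⟶ i), (D.map f).appLE U (D.map f ⁻¹ᵁ U) le_rfl s = 0 := by
  obtain rfl := le_antisymm hV hV'
  rw [Scheme.Hom.appLE_eq_app] at h
  obtain ⟨j, f, hf⟩ := exists_app_map_eq_zero_of_isLimit _ _ hc hU s h
  exact ⟨j, f, by rw [Scheme.Hom.appLE_eq_app]; exact hf⟩

/-- The ideal of an effective Cartier modulus pulled back to a cofiltered limit with affine minimal transition maps is
effective Cartier. -/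
theorem isEff_limit (J : ∀ i, (D.obj i).IdealSheafData) (hJ : ∀ i, BlowUp.IsEffCartierIdeal (J i))
    (hmin : ∀ (i j : I) (t : i ⟶ j), IsMinimal (J i) (J j) (D.map t)) (i : I) :
    BlowUp.IsEffCartierIdeal ((J i).comap (c.π.app i)) := by
  have haff := isAffineHom_π_app D c hc i
  refine isEff_comap_of _ fun x => ?_
  obtain ⟨U, hxU, a, ha, hIa⟩ := hJ i (c.π.app i x)
  refine ⟨U, ⟨c.π.app i ⁻¹ᵁ U.1, U.2.preimage (c.π.app i)⟩, hxU, hxU, le_rfl, a, hIa, ?_⟩
  rw [mem_nonZeroDivisors_iff_right]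
  intro b hb
  obtain ⟨j, f, t, rfl⟩ := exists_app_eq_affine hc U.1 U.2 b
  have h1 : (c.π.app j).appLE (D.map f ⁻¹ᵁ U.1) (c.π.app i ⁻¹ᵁ U.1) (le_preimage D c f U.1)
      (t * (D.map f).appLE U.1 (D.map f ⁻¹ᵁ U.1) le_rfl a) = 0 := by
    rw [map_mul, appLE_appLE, appLE_congr_hom (c.w f)]
    exact hb
  obtain ⟨k, g, hg⟩ := exists_appLE_eq_zero hc (U.2.preimage (D.map f)).isCompact _ _
    (preimage_preimage D c f U.1).le (le_preimage D c f U.1) h1
  rw [map_mul, appLE_appLE, appLE_congr_hom (D.map_comp g f).symm] at hg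
  have hk : D.map g ⁻¹ᵁ D.map f ⁻¹ᵁ U.1 ≤ D.map (g ≫ f) ⁻¹ᵁ U.1 := by
    rw [← Scheme.Hom.comp_preimage, ← D.map_comp]
  have h2 : (J k).ideal ⟨D.map g ⁻¹ᵁ D.map f ⁻¹ᵁ U.1, (U.2.preimage (D.map f)).preimage (D.map g)⟩ =
      Ideal.span {(D.map (g ≫ f)).appLE U.1 (D.map g ⁻¹ᵁ D.map f ⁻¹ᵁ U.1) hk a} := by
    rw [show J k = (J i).comap (D.map (g ≫ f)) from hmin _ _ _,
      ideal_comap (J i) (D.map (g ≫ f)) U ⟨D.map g ⁻¹ᵁ D.map f ⁻¹ᵁ U.1, (U.2.preimage (D.map f)).preimage (D.map g)⟩ hk,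
      hIa, Ideal.map_span, Set.image_singleton]
  have h3 := mem_nonZeroDivisors_of_isEff (hJ k) _ _ h2
  have h4 : (D.map g).appLE (D.map f ⁻¹ᵁ U.1) (D.map g ⁻¹ᵁ D.map f ⁻¹ᵁ U.1) le_rfl t = 0 :=
    (mem_nonZeroDivisors_iff_right.1 h3) _ hg
  have h5 : c.π.app i ⁻¹ᵁ U.1 ≤ c.π.app k ⁻¹ᵁ D.map g ⁻¹ᵁ D.map f ⁻¹ᵁ U.1 := by
    rw [preimage_preimage, preimage_preimage]
  have h6 := congrArg ((c.π.app k).appLE (D.map g ⁻¹ᵁ D.map f ⁻¹ᵁ U.1) (c.π.app i ⁻¹ᵁ U.1) h5) h4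
  rw [map_zero, appLE_appLE, appLE_congr_hom (c.w g)] at h6
  exact h6

/-- Projections of a cofiltered limit with affine schematically dominant transition maps are schematically dominant. -/
theorem dominant_π [∀ (i j : I) (t : i ⟶ j), IsSchemeTheoreticallyDominant (D.map t)] (i : I) :
    IsSchemeTheoreticallyDominant (c.π.app i) := by
  have haff := isAffineHom_π_app D c hc i
  refine ⟨?_⟩
  refine Scheme.IdealSheafData.ext_of_iSup_eq_top (fun U : (D.obj i).affineOpens => U) (iSup_affineOpens_eq_top _) ?_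
  intro U
  rw [Scheme.Hom.ker_apply, Scheme.IdealSheafData.ideal_bot, Pi.bot_apply, ← RingHom.injective_iff_ker_eq_bot,
    injective_iff_map_eq_zero]
  intro s hs
  obtain ⟨j, f, hf⟩ := exists_app_map_eq_zero_of_isLimit _ _ hc U.2.isCompact s hs
  exact (injective_iff_map_eq_zero _).1 ((D.map f).app_injective U.1) s hf

end K971.LimBasic
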