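import Groth.Agent.ModPair.K971.MProd
import Groth.Agent.ModPair.K971.LimBasic
import Groth.Agent.FlatA.ProperApprox
import Groth.Agent.Flat2C.ClosureIso
import Groth.Agent.S2079
import Mathlib.AlgebraicGeometry.ZariskisMainTheorem

/-!
# Admissible blow-ups of a cofiltered limit with affine minimal transition maps descend
-/

set_option autoImplicit false
universe u
open CategoryTheory CategoryTheory.Limits AlgebraicGeometry TopologicalSpace

namespace K971.LimBlow

open ModPair K971.Basic K971.MProd Groth.Agent.Flat2C.ClosureIso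

/-- the inverse of `s` over an open over which it is an isomorphism -/
theorem exists_section {X Y : Scheme.{u}} (s : Y ⟶ X) (U : X.Opens) [IsIso (s ∣_ U)] :
    ∃ σ : (U : Scheme.{u}) ⟶ Y, σ ≫ s = U.ι ∧
      (IsSchemeTheoreticallyDominant (s ⁻¹ᵁ U).ι → IsSchemeTheoreticallyDominant σ) := by
  refine ⟨inv (s ∣_ U) ≫ (s ⁻¹ᵁ U).ι, ?_, fun hU => ?_⟩
  · rw [Category.assoc, ← morphismRestrict_ι, IsIso.inv_hom_id_assoc]
  · infer_instance

/-- comparison of an admissible blow-up with the ambient product -/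
theorem exists_iso_mprod {X Xi Y Yi : Scheme.{u}} (π : X ⟶ Xi) (si : Yi ⟶ Xi) (s : Y ⟶ X) (y : Y ⟶ Yi)
    (J : Xi.IdealSheafData) (hJ : LocPrin J) (hy : s ≫ π = y ≫ si) [IsProper s] [IsSeparated si]
    (hY : BlowUp.IsEffCartierIdeal ((J.comap π).comap s)) [IsIso (s ∣_ interior (J.comap π))]
    [IsIso (si ∣_ interior J)] (hm : Mono (pullback.lift s y hy)) :
    ∃ e : Y ≅ mprod π si (J.comap π) (J.comap si), e.hom ≫ mprodι π si _ _ ≫ pullback.fst π si = s := by
  have hfst : pullback.lift s y hy ≫ pullback.fst π si = s := pullback.lift_fst _ _ _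
  have hsnd : pullback.lift s y hy ≫ pullback.snd π si = y := pullback.lift_snd _ _ _
  generalize pullback.lift s y hy = h at hm hfst hsnd
  have hprop : IsProper h := by
    have : IsProper (h ≫ pullback.fst π si) := by rw [hfst]; infer_instance
    exact IsProper.of_comp h (pullback.fst π si)
  have hcl : IsClosedImmersion h := (IsClosedImmersion.iff_isProper_and_mono h).2 ⟨hprop, hm⟩
  have hV : prodInterior π si (J.comap π) (J.comap si) = pullback.fst π si ⁻¹ᵁ interior (J.comap π) :=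
    prodInterior_eq_fst (IS := J) (le_refl (J.comap π)) (rfl : J.comap si = J.comap si)
  have hqc : QuasiCompact (prodInterior π si (J.comap π) (J.comap si)).ι :=
    quasiCompact_prodInterior _ _ (hJ.comap _) (hJ.comap _)
  change ∃ e : Y ≅ (prodInterior π si (J.comap π) (J.comap si)).ι.image,
    e.hom ≫ (prodInterior π si (J.comap π) (J.comap si)).ι.imageι ≫ pullback.fst π si = s
  generalize prodInterior π si (J.comap π) (J.comap si) = V at hV hqc
  have h1 : V.ι.ker ≤ h.ker := by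
    have := dominant_interior hY
    refine ker_le_of_dominant V h (interior ((J.comap π).comap s)) ?_
    rw [hV, interior_comap, ← Scheme.Hom.comp_preimage, hfst]
  have h2 : h.ker ≤ V.ι.ker := by
    have hr : Set.range (V.ι ≫ pullback.fst π si) ⊆ Set.range (interior (J.comap π)).ι := by
      rw [Scheme.Opens.range_ι]
      rintro _ ⟨v, rfl⟩
      have : V.ι v ∈ V := v.2
      exact hV.le this
    obtain ⟨r, hr⟩ : ∃ r, r ≫ (interior (J.comap π)).ι = V.ι ≫ pullback.fst π si :=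
      ⟨_, IsOpenImmersion.lift_fac _ _ hr⟩
    obtain ⟨σ, hσ, -⟩ := exists_section s (interior (J.comap π))
    have hw1 : (r ≫ σ) ≫ s = V.ι ≫ pullback.fst π si := by rw [Category.assoc, hσ, hr]
    have hw2 : (r ≫ σ) ≫ y = V.ι ≫ pullback.snd π si := by
      refine eq_of_mono_restrict (φ := si) (interior J) ?_ ?_
      · rw [Category.assoc, ← hy, ← Category.assoc, hw1, Category.assoc, Category.assoc, pullback.condition]
      · intro t
        rw [← Scheme.Hom.comp_apply, Category.assoc, ← hy, ← Category.assoc, hw1, ← hr]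
        have : (interior (J.comap π)).ι (r t) ∈ interior (J.comap π) := (r t).2
        exact (interior_comap J π).le this
    have hw : (r ≫ σ) ≫ h = V.ι := by
      apply pullback.hom_ext
      · rw [Category.assoc, hfst, hw1]
      · rw [Category.assoc, hsnd, hw2]
    rw [← hw]
    exact Scheme.Hom.le_ker_comp _ _
  let a : Y ⟶ V.ι.image := IsClosedImmersion.lift V.ι.imageι h (by
    rw [Scheme.IdealSheafData.ker_subschemeι]; exact h1)
  have ha : a ≫ V.ι.imageι = h := IsClosedImmersion.lift_fac _ _ _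
  let b : V.ι.image ⟶ Y := IsClosedImmersion.lift h V.ι.imageι (by
    rw [Scheme.IdealSheafData.ker_subschemeι]; exact h2)
  have hb : b ≫ h = V.ι.imageι := IsClosedImmersion.lift_fac _ _ _
  refine ⟨⟨a, b, ?_, ?_⟩, ?_⟩
  · rw [← cancel_mono h, Category.assoc, hb, ha, Category.id_comp]
  · rw [← cancel_mono V.ι.imageι, Category.assoc, ha, hb, Category.id_comp]
  · change a ≫ _ = _
    rw [← Category.assoc, ha, hfst]

/-- The closure of a section over the interior. -/
theorem isAdmBlowup_closure {Xi Z : Scheme.{u}} (g : Z ⟶ Xi) [IsProper g] (J : Xi.IdealSheafData)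
    (hJ : BlowUp.IsEffCartierIdeal J) (U : Xi.Opens) (hU : U = interior J) (σ : (U : Scheme.{u}) ⟶ Z)
    (hσ : σ ≫ g = U.ι) :
    QuasiCompact σ ∧ BlowUp.IsEffCartierIdeal (J.comap (σ.imageι ≫ g)) ∧
      IsAdmBlowup (J.comap (σ.imageι ≫ g)) J (σ.imageι ≫ g) := by
  subst hU
  have h1 : QuasiCompact (interior J).ι := quasiCompact_interior hJ
  have hqc : QuasiCompact σ := by
    have : QuasiCompact (σ ≫ g) := by rw [hσ]; exact h1
    exact QuasiCompact.of_comp σ g
  have ho : IsOpenImmersion (σ ≫ g) := by rw [hσ]; infer_instance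
  have hiso := isIso_image_restrict σ g
  have hr : (σ ≫ g).opensRange = interior J := by
    ext x
    simp [hσ]
  rw [hr] at hiso
  refine ⟨hqc, ?_, rfl, inferInstance, hiso⟩
  rw [isEff_comap_iff (locPrin_of_isEff hJ)]
  have hd := isSchemeTheoreticallyDominant_toImage σ
  have hrange : Set.range σ.toImage ⊆ Set.range ((σ.imageι ≫ g) ⁻¹ᵁ interior J).ι := by
    rw [Scheme.Opens.range_ι]
    rintro _ ⟨v, rfl⟩
    change (σ.imageι ≫ g) (σ.toImage v) ∈ interior J
    rw [← Scheme.Hom.comp_apply, Scheme.Hom.toImage_imageι_assoc, hσ]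
    exact v.2
  have h2 : IsOpenImmersion.lift ((σ.imageι ≫ g) ⁻¹ᵁ interior J).ι σ.toImage hrange ≫
    ((σ.imageι ≫ g) ⁻¹ᵁ interior J).ι = σ.toImage := IsOpenImmersion.lift_fac _ _ _
  have h3 : IsSchemeTheoreticallyDominant (IsOpenImmersion.lift ((σ.imageι ≫ g) ⁻¹ᵁ interior J).ι σ.toImage hrange ≫
    ((σ.imageι ≫ g) ⁻¹ᵁ interior J).ι) := by rw [h2]; exact hd
  exact dominant_of_comp (IsOpenImmersion.lift ((σ.imageι ≫ g) ⁻¹ᵁ interior J).ι σ.toImage hrange) _

section opens

variable {I : Type u} [SmallCategory I] (D : I ⥤ Scheme.{u})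

/-- the structure morphisms of `opensDiagram` -/
noncomputable def opensStruct (i : I) (U : (D.obj i).Opens) :
    opensDiagram D i U ⟶ (Functor.const (Over i)).obj (D.obj i) where
  app k := (D.map k.hom ⁻¹ᵁ U).ι ≫ D.map k.hom
  naturality k k' f := by
    change (D.map f.left).resLE _ _ _ ≫ (D.map k'.hom ⁻¹ᵁ U).ι ≫ D.map k'.hom = ((D.map k.hom ⁻¹ᵁ U).ι ≫ D.map k.hom) ≫ 𝟙 _
    rw [Scheme.Hom.resLE_comp_ι_assoc, Category.comp_id, ← D.map_comp, Over.w f]

/-- Morphisms from an open of the limit to a scheme locally of finite presentation over a stage descend. -/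
theorem exists_fac_open [IsCofiltered I] (c : Cone D) (hc : IsLimit c)
    [∀ {i j : I} (t : i ⟶ j), IsAffineHom (D.map t)]
    [∀ i, CompactSpace (D.obj i)] [∀ i, QuasiSeparatedSpace (D.obj i)] {i : I} (U : (D.obj i).Opens)
    (hU : QuasiCompact U.ι) {Z : Scheme.{u}} (g : Z ⟶ D.obj i) [LocallyOfFinitePresentation g]
    (τ : ((c.π.app i ⁻¹ᵁ U : c.pt.Opens) : Scheme.{u}) ⟶ Z) (hτ : τ ≫ g = (c.π.app i ⁻¹ᵁ U).ι ≫ c.π.app i) :
    ∃ (k : I) (t : k ⟶ i) (τk : ((D.map t ⁻¹ᵁ U : (D.obj k).Opens) : Scheme.{u}) ⟶ Z),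
      τk ≫ g = (D.map t ⁻¹ᵁ U).ι ≫ D.map t ∧
      (c.π.app k).resLE (D.map t ⁻¹ᵁ U) (c.π.app i ⁻¹ᵁ U) (K971.LimBasic.le_preimage D c t U) ≫ τk = τ := by
  have hUc : IsCompact (U : Set (D.obj i)) := by
    have : CompactSpace U := QuasiCompact.compactSpace_of_compactSpace U.ι
    exact isCompact_iff_compactSpace.2 this
  have (j : Over i) : CompactSpace ((opensDiagram D i U).obj j) :=
    isCompact_iff_compactSpace.mp (QuasiCompact.isCompact_preimage _ U.2 hUc)
  have (j : Over i) : QuasiSeparatedSpace ((opensDiagram D i U).obj j) :=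
    (isQuasiSeparated_iff_quasiSeparatedSpace _ (D.map _ ⁻¹ᵁ _).2).mp (.of_quasiSeparatedSpace _)
  obtain ⟨k, τk, h1, h2⟩ := Scheme.exists_π_app_comp_eq_of_locallyOfFinitePresentation (opensDiagram D i U)
    (opensStruct D i U) g _ (isLimitOpensCone D c hc i U) τ (by
      ext k : 2
      change (c.π.app k.left).resLE _ _ _ ≫ (D.map k.hom ⁻¹ᵁ U).ι ≫ D.map k.hom = τ ≫ g
      rw [Scheme.Hom.resLE_comp_ι_assoc, c.w, hτ])
  exact ⟨k.left, k.hom, τk, h2, h1⟩

end opens

theorem exists_descend {I : Type u}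
    [SmallCategory I] [IsCofiltered I] (D : I ⥤ Scheme.{u}) (c : Cone D) (hc : IsLimit c)
    [∀ (i j : I) (t : i ⟶ j), IsAffineHom (D.map t)]
    [∀ i, CompactSpace (D.obj i)] [∀ i, QuasiSeparatedSpace (D.obj i)]
    (J : ∀ i, (D.obj i).IdealSheafData) (hJ : ∀ i, BlowUp.IsEffCartierIdeal (J i))
    (hmin : ∀ (i j : I) (t : i ⟶ j), ModPair.IsMinimal (J i) (J j) (D.map t))
    (IX : c.pt.IdealSheafData) (hIX : ∀ i, IX = (J i).comap (c.π.app i))
    {Y : Scheme.{u}} (s : Y ⟶ c.pt) (hY : BlowUp.IsEffCartierIdeal (IX.comap s))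
    (hs : ModPair.IsAdmBlowup (IX.comap s) IX s) :
    ∃ (i : I) (Yi : Scheme.{u}) (IYi : Yi.IdealSheafData) (si : Yi ⟶ D.obj i),
      BlowUp.IsEffCartierIdeal IYi ∧ ModPair.IsAdmBlowup IYi (J i) si ∧
        ∃ e : Y ≅ ModPair.mprod (c.π.app i) si IX IYi,
          e.hom ≫ ModPair.mprodι (c.π.app i) si IX IYi ≫ pullback.fst (c.π.app i) si = s := by
  obtain ⟨-, hsp, hsi⟩ := hs
  -- approximate `Y`
  have haff : ∀ {i j : I} (t : i ⟶ j), IsAffineHom (D.map t) := fun t => inferInstance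
  have haffπ : ∀ i, IsAffineHom (c.π.app i) := fun i => isAffineHom_π_app D c hc i
  obtain ⟨ii⟩ : Nonempty I := IsCofiltered.nonempty
  have hXc : CompactSpace c.pt := QuasiCompact.compactSpace_of_compactSpace (c.π.app ii)
  have hXq : QuasiSeparatedSpace c.pt := quasiSeparatedSpace_of_quasiSeparated (c.π.app ii)
  obtain ⟨Y', f', j, hf'p, hf'l, hj, hjf⟩ : ∃ (Y' : Scheme.{u}) (f' : Y' ⟶ c.pt) (j : Y ⟶ Y'), IsProper f' ∧
      LocallyOfFinitePresentation f' ∧ IsClosedImmersion j ∧ j ≫ f' = s := by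
    obtain ⟨A, _, _, E, cE, hcE, e, h1, h2⟩ := Groth.Agent.S2079.result s
    obtain ⟨a⟩ : Nonempty A := IsCofiltered.nonempty
    obtain ⟨h3, h4, h5⟩ := h2 a
    refine ⟨(E.obj a).left, (E.obj a).hom, e.inv.left ≫ (cE.π.app a).left, h4, h5, inferInstance, ?_⟩
    rw [Category.assoc, Over.w]
    exact Over.w e.inv
  obtain ⟨i₀, Y₀, g₀, p, hpb, hg₀, hg₀l⟩ := Groth.Agent.FlatA.ProperApprox.exists_proper_model D c hc f'
  have hU : ∀ i, interior IX = c.π.app i ⁻¹ᵁ interior (J i) := fun i => by rw [hIX i, interior_comap]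
  have hsi' : IsIso (s ∣_ (c.π.app i₀ ⁻¹ᵁ interior (J i₀))) := by rw [← hU]; exact hsi
  obtain ⟨σ, hσ, hσd⟩ := exists_section s (c.π.app i₀ ⁻¹ᵁ interior (J i₀))
  have hσd' : IsSchemeTheoreticallyDominant σ := by
    apply hσd
    rw [← hU, ← interior_comap]
    exact dominant_interior hY
  obtain ⟨i, t, τ, hτ1, hτ2⟩ := exists_fac_open D c hc (interior (J i₀)) (quasiCompact_interior (hJ i₀)) g₀
    (σ ≫ j ≫ p) (by
      rw [Category.assoc, Category.assoc, hpb.w, ← Category.assoc j, hjf, ← Category.assoc, hσ])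
  have hUi : D.map t ⁻¹ᵁ interior (J i₀) = interior (J i) := by
    rw [← interior_comap, ← show J i = (J i₀).comap (D.map t) from hmin _ _ _]
  have hg : IsProper (pullback.snd g₀ (D.map t)) := inferInstance
  let σ' : ((D.map t ⁻¹ᵁ interior (J i₀) : (D.obj i).Opens) : Scheme.{u}) ⟶ pullback g₀ (D.map t) :=
    pullback.lift τ (D.map t ⁻¹ᵁ interior (J i₀)).ι hτ1
  have hσ'1 : σ' ≫ pullback.fst g₀ (D.map t) = τ := pullback.lift_fst _ _ _
  have hσ'2 : σ' ≫ pullback.snd g₀ (D.map t) = (D.map t ⁻¹ᵁ interior (J i₀)).ι := pullback.lift_snd _ _ _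
  obtain ⟨hqc, hEff, hAdm⟩ := isAdmBlowup_closure (pullback.snd g₀ (D.map t)) (J i) (hJ i) _ hUi σ' hσ'2
  let q : Y' ⟶ pullback g₀ (D.map t) := pullback.lift p (f' ≫ c.π.app i) (by rw [Category.assoc, c.w, hpb.w])
  have hq1 : q ≫ pullback.fst g₀ (D.map t) = p := pullback.lift_fst _ _ _
  have hq2 : q ≫ pullback.snd g₀ (D.map t) = f' ≫ c.π.app i := pullback.lift_snd _ _ _
  have hσq : σ ≫ j ≫ q = (c.π.app i).resLE (D.map t ⁻¹ᵁ interior (J i₀)) (c.π.app i₀ ⁻¹ᵁ interior (J i₀))
      (K971.LimBasic.le_preimage D c t (interior (J i₀))) ≫ σ' := by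
    apply pullback.hom_ext
    · rw [Category.assoc, Category.assoc, hq1, Category.assoc, hσ'1, hτ2]
    · rw [Category.assoc, Category.assoc, hq2, Category.assoc, hσ'2, Scheme.Hom.resLE_comp_ι, ← Category.assoc j,
        hjf, ← Category.assoc, hσ]
  have hker : σ'.imageι.ker ≤ (j ≫ q).ker := by
    rw [Scheme.IdealSheafData.ker_subschemeι]
    have h1 : (σ ≫ j ≫ q).ker = (j ≫ q).ker := by
      rw [Scheme.Hom.ker_comp, σ.ker_eq_bot, Scheme.IdealSheafData.map_bot]
    rw [← h1, hσq]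
    exact Scheme.Hom.le_ker_comp _ _
  let y : Y ⟶ σ'.image := IsClosedImmersion.lift σ'.imageι (j ≫ q) hker
  have hy0 : y ≫ σ'.imageι = j ≫ q := IsClosedImmersion.lift_fac _ _ _
  have hy : s ≫ c.π.app i = y ≫ (σ'.imageι ≫ pullback.snd g₀ (D.map t)) := by
    rw [← Category.assoc, hy0, Category.assoc, hq2, ← Category.assoc, hjf]
  have hIXi := hIX i
  have hsepi : IsSeparated (σ'.imageι ≫ pullback.snd g₀ (D.map t)) := inferInstance
  have hisoi : IsIso ((σ'.imageι ≫ pullback.snd g₀ (D.map t)) ∣_ interior (J i)) := hAdm.2.2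
  have hmono : Mono (pullback.lift s y hy) := by
    refine ⟨fun {T} a b hab => ?_⟩
    have h1 : a ≫ s = b ≫ s := by
      have := congrArg (fun x => x ≫ pullback.fst _ _) hab
      simpa only [Category.assoc, pullback.lift_fst] using this
    have h2 : a ≫ y = b ≫ y := by
      have := congrArg (fun x => x ≫ pullback.snd _ _) hab
      simpa only [Category.assoc, pullback.lift_snd] using this
    rw [← cancel_mono j]
    apply hpb.hom_ext
    · have h3 := congrArg (fun x => x ≫ σ'.imageι ≫ pullback.fst _ _) h2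
      simp only [Category.assoc] at h3
      rw [reassoc_of% hy0, hq1] at h3
      rw [Category.assoc, Category.assoc]
      exact h3
    · rw [Category.assoc, Category.assoc, hjf, h1]
  subst hIXi
  obtain ⟨e, he⟩ := exists_iso_mprod (c.π.app i) (σ'.imageι ≫ pullback.snd g₀ (D.map t)) s y (J i)
    (locPrin_of_isEff (hJ i)) hy hY hmono
  exact ⟨i, σ'.image, (J i).comap (σ'.imageι ≫ pullback.snd g₀ (D.map t)), σ'.imageι ≫ pullback.snd g₀ (D.map t),
    hEff, hAdm, e, he⟩

end K971.LimBlow
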