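import Groth.Agent.ModPair.K971.LimBasic
import Groth.Agent.ModPair.K971.MProd
import Groth.Agent.S2078

/-!
# Morphisms out of cofiltered limits with affine schematically dominant transition maps
-/

set_option autoImplicit false
universe u
open CategoryTheory CategoryTheory.Limits AlgebraicGeometry TopologicalSpace

namespace K971.LimHom

variable {S : Scheme.{u}} {I : Type u} [SmallCategory I] [IsCofiltered I] (D : I ⥤ Over S)
    (c : Cone D) (hc : IsLimit c)

/-- the structure morphisms of a diagram of `S`-schemes, as a natural transformation -/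
@[simps] def structMap : D ⋙ Over.forget S ⟶ (Functor.const I).obj S where
  app i := (D.obj i).hom
  naturality i j f := by simp

variable {D c}

include hc

/-- Two morphisms to a scheme locally of finite type which agree on the limit agree at a later stage. -/
theorem exists_comp_eq [∀ (i j : I) (t : i ⟶ j), IsAffineHom (D.map t).left]
    [∀ i, CompactSpace (D.obj i).left]
    (Y : Over S) [LocallyOfFiniteType Y.hom] (i : I) (φ ψ : D.obj i ⟶ Y) (h : c.π.app i ≫ φ = c.π.app i ≫ ψ) :
    ∃ (j : I) (t : j ⟶ i), D.map t ≫ φ = D.map t ≫ ψ := by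
  have : ∀ i, CompactSpace ((D ⋙ Over.forget S).obj i) := fun i => inferInstanceAs (CompactSpace (D.obj i).left)
  have : ∀ {i j : I} (t : i ⟶ j), IsAffineHom ((D ⋙ Over.forget S).map t) :=
    fun t => inferInstanceAs (IsAffineHom (D.map t).left)
  obtain ⟨k, t, ht⟩ := Scheme.exists_hom_comp_eq_comp_of_locallyOfFiniteType (D ⋙ Over.forget S) (structMap D) Y.hom
    _ (isLimitOfPreserves (Over.forget S) hc) (i := i) φ.left ψ.left (Over.w φ).symm (Over.w ψ).symm
    (congrArg (fun x => x.left) h)
  exact ⟨k, t, by ext; exact ht⟩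

/-- Morphisms to a scheme locally of finite presentation descend. -/
theorem exists_fac_of_lfp [∀ (i j : I) (t : i ⟶ j), IsAffineHom (D.map t).left]
    [∀ i, CompactSpace (D.obj i).left] [∀ i, QuasiSeparatedSpace (D.obj i).left]
    (Y : Over S) [LocallyOfFinitePresentation Y.hom] (φ : c.pt ⟶ Y) :
    ∃ (i : I) (φi : D.obj i ⟶ Y), c.π.app i ≫ φi = φ := by
  have : ∀ i, CompactSpace ((D ⋙ Over.forget S).obj i) := fun i => inferInstanceAs (CompactSpace (D.obj i).left)
  have : ∀ i, QuasiSeparatedSpace ((D ⋙ Over.forget S).obj i) :=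
    fun i => inferInstanceAs (QuasiSeparatedSpace (D.obj i).left)
  have : ∀ {i j : I} (t : i ⟶ j), IsAffineHom ((D ⋙ Over.forget S).map t) :=
    fun t => inferInstanceAs (IsAffineHom (D.map t).left)
  obtain ⟨k, g, hg, hg'⟩ := Scheme.exists_π_app_comp_eq_of_locallyOfFinitePresentation (D ⋙ Over.forget S)
    (structMap D) Y.hom _ (isLimitOfPreserves (Over.forget S) hc) φ.left (by
      ext i : 2
      simp)
  exact ⟨k, Over.homMk g hg', by ext; exact hg⟩

/-- Morphisms to a quasi-compact quasi-separated scheme locally of finite type descend if the transition maps are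
schematically dominant. -/
theorem exists_fac_of_dominant [QuasiSeparatedSpace S] [∀ (i j : I) (t : i ⟶ j), IsAffineHom (D.map t).left]
    [∀ (i j : I) (t : i ⟶ j), IsSchemeTheoreticallyDominant (D.map t).left]
    [∀ i, CompactSpace (D.obj i).left] [∀ i, QuasiSeparatedSpace (D.obj i).left]
    (Y : Over S) [CompactSpace Y.left] [QuasiSeparatedSpace Y.left] [LocallyOfFiniteType Y.hom] (φ : c.pt ⟶ Y) :
    ∃ (i : I) (φi : D.obj i ⟶ Y), c.π.app i ≫ φi = φ := by
  have : ∀ {i j : I} (t : i ⟶ j), IsAffineHom ((D ⋙ Over.forget S).map t) :=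
    fun t => inferInstanceAs (IsAffineHom (D.map t).left)
  have : ∀ (i j : I) (t : i ⟶ j), IsSchemeTheoreticallyDominant ((D ⋙ Over.forget S).map t) :=
    fun i j t => inferInstanceAs (IsSchemeTheoreticallyDominant (D.map t).left)
  obtain ⟨Y', f', j, h1, h2, h3, h4, h5⟩ := Groth.Agent.S2078.result Y.hom
  have : LocallyOfFinitePresentation (Over.mk f').hom := h1
  obtain ⟨i, φi, hφi⟩ := exists_fac_of_lfp hc (Over.mk f') (φ ≫ Over.homMk j h5)
  have hdom : IsSchemeTheoreticallyDominant (c.π.app i).left :=
    K971.LimBasic.dominant_π (isLimitOfPreserves (Over.forget S) hc) i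
  have hπ : (c.π.app i).left ≫ φi.left = φ.left ≫ j := congrArg (fun x => x.left) hφi
  have hker : j.ker ≤ φi.left.ker := by
    have h6 : ((c.π.app i).left ≫ φi.left).ker = φi.left.ker := by
      rw [Scheme.Hom.ker_comp, Scheme.Hom.ker_eq_bot, Scheme.IdealSheafData.map_bot]
    rw [← h6, hπ]
    exact Scheme.Hom.le_ker_comp _ _
  refine ⟨i, Over.homMk (IsClosedImmersion.lift j φi.left hker) ?_, ?_⟩
  · rw [← h5, IsClosedImmersion.lift_fac_assoc]
    exact Over.w φi
  · ext
    rw [← cancel_mono j]
    simp only [Over.comp_left, Over.homMk_left, Category.assoc, IsClosedImmersion.lift_fac]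
    exact hπ

end K971.LimHom
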