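import Groth.Agent.ModPair.K971.LimBasic

/-!
# Inequalities between ideal sheaves descend along cofiltered limits with affine transition maps
-/

set_option autoImplicit false
universe u
open CategoryTheory CategoryTheory.Limits AlgebraicGeometry TopologicalSpace

namespace K971.LimMod

open ModPair K971.Basic K971.LimBasic Groth.Agent.Divis.IdealComap Groth.Agent.Divis.EffCartier

theorem map_ind {A R : Type*} [CommRing A] [CommRing R] (ρ : A →+* R) (B : Ideal A) (p : R → Prop) (h0 : p 0)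
    (hmem : ∀ b ∈ B, p (ρ b)) (hadd : ∀ x y, p x → p y → p (x + y)) (hsmul : ∀ a x, p x → p (a * x)) {x : R}
    (hx : x ∈ B.map ρ) : p x := by
  refine Submodule.span_induction (p := fun x _ => p x) ?_ h0 (fun x y _ _ => hadd x y) (fun a x _ => hsmul a x) hx
  rintro _ ⟨b, hb, rfl⟩
  exact hmem b hb

variable {I : Type u} [SmallCategory I] {D : I ⥤ Scheme.{u}} {c : Cone D}

/-- sections over the preimage of an open of an earlier stage can be moved to later stages -/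
theorem move {i j k : I} (U : (D.obj i).Opens) (f : j ⟶ i) (g : k ⟶ j) (h : k ⟶ i) (hh : g ≫ f = h)
    (y : Γ(D.obj j, D.map f ⁻¹ᵁ U)) : ∃ y' : Γ(D.obj k, D.map h ⁻¹ᵁ U),
      (∀ B : Ideal Γ(D.obj i, U), y ∈ B.map ((D.map f).appLE U (D.map f ⁻¹ᵁ U) le_rfl).hom →
        y' ∈ B.map ((D.map h).appLE U (D.map h ⁻¹ᵁ U) le_rfl).hom) ∧
      (c.π.app k).appLE (D.map h ⁻¹ᵁ U) (c.π.app i ⁻¹ᵁ U) (le_preimage D c h U) y' =
        (c.π.app j).appLE (D.map f ⁻¹ᵁ U) (c.π.app i ⁻¹ᵁ U) (le_preimage D c f U) y := by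
  subst hh
  have h : D.map (g ≫ f) ⁻¹ᵁ U ≤ D.map g ⁻¹ᵁ D.map f ⁻¹ᵁ U := by
    rw [D.map_comp, Scheme.Hom.comp_preimage]
  refine ⟨(D.map g).appLE (D.map f ⁻¹ᵁ U) (D.map (g ≫ f) ⁻¹ᵁ U) h y, fun B hy => ?_, ?_⟩
  · have h1 := Ideal.mem_map_of_mem ((D.map g).appLE (D.map f ⁻¹ᵁ U) (D.map (g ≫ f) ⁻¹ᵁ U) h).hom hy
    rw [Ideal.map_map, ← CommRingCat.hom_comp, Scheme.Hom.appLE_comp_appLE] at h1
    convert h1 using 4
    exact D.map_comp g f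
  · rw [appLE_appLE, appLE_congr_hom (c.w g)]

variable [IsCofiltered I] [∀ {i j} (f : i ⟶ j), IsAffineHom (D.map f)] (hc : IsLimit c)

include hc

/-- an element of the extension of an ideal to the limit comes from the extension to a finite stage -/
theorem exists_mem_map {i : I} (U : (D.obj i).Opens) (hU : IsAffineOpen U) (B : Ideal Γ(D.obj i, U))
    (x : Γ(c.pt, c.π.app i ⁻¹ᵁ U)) (hx : x ∈ B.map ((c.π.app i).appLE U (c.π.app i ⁻¹ᵁ U) le_rfl).hom) :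
    ∃ (j : I) (f : j ⟶ i) (y : Γ(D.obj j, D.map f ⁻¹ᵁ U)),
      y ∈ B.map ((D.map f).appLE U (D.map f ⁻¹ᵁ U) le_rfl).hom ∧
      (c.π.app j).appLE (D.map f ⁻¹ᵁ U) (c.π.app i ⁻¹ᵁ U) (le_preimage D c f U) y = x := by
  refine map_ind _ B (fun x => ∃ (j : I) (f : j ⟶ i) (y : Γ(D.obj j, D.map f ⁻¹ᵁ U)),
      y ∈ B.map ((D.map f).appLE U (D.map f ⁻¹ᵁ U) le_rfl).hom ∧
      (c.π.app j).appLE (D.map f ⁻¹ᵁ U) (c.π.app i ⁻¹ᵁ U) (le_preimage D c f U) y = x) ?_ ?_ ?_ ?_ hx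
  · exact ⟨i, 𝟙 i, 0, Ideal.zero_mem _, map_zero _⟩
  · rintro b hb
    refine ⟨i, 𝟙 i, (D.map (𝟙 i)).appLE U (D.map (𝟙 i) ⁻¹ᵁ U) le_rfl b, Ideal.mem_map_of_mem _ hb, ?_⟩
    rw [appLE_appLE, appLE_congr_hom (c.w (𝟙 i))]
  · rintro _ _ ⟨j, f, y, hy, rfl⟩ ⟨j', f', y', hy', rfl⟩
    obtain ⟨k, g, g', hg⟩ := IsCofiltered.cospan f f'
    obtain ⟨z, hz1, hz2⟩ := move (c := c) U f g (g ≫ f) rfl y
    obtain ⟨z', hz1', hz2'⟩ := move (c := c) U f' g' (g ≫ f) hg.symm y'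
    exact ⟨k, g ≫ f, z + z', Ideal.add_mem _ (hz1 B hy) (hz1' B hy'), by rw [map_add, hz2, hz2']⟩
  · rintro a _ ⟨j, f, y, hy, rfl⟩
    obtain ⟨j', f', a', rfl⟩ := exists_app_eq_affine hc U hU a
    obtain ⟨k, g, g', hg⟩ := IsCofiltered.cospan f f'
    obtain ⟨z, hz1, hz2⟩ := move (c := c) U f g (g ≫ f) rfl y
    obtain ⟨z', hz1', hz2'⟩ := move (c := c) U f' g' (g ≫ f) hg.symm a'
    exact ⟨k, g ≫ f, z' * z, Ideal.mul_mem_left _ _ (hz1 B hy), by rw [map_mul, hz2, hz2']⟩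

/-- If a section of a stage lies in the extension of `B` to the limit, it lies in the extension of `B` to a later
stage. -/
theorem exists_mem_map_of_mem {i : I} (U : (D.obj i).Opens) (hU : IsAffineOpen U) (B : Ideal Γ(D.obj i, U))
    (a : Γ(D.obj i, U)) (ha : (c.π.app i).appLE U (c.π.app i ⁻¹ᵁ U) le_rfl a ∈
      B.map ((c.π.app i).appLE U (c.π.app i ⁻¹ᵁ U) le_rfl).hom) :
    ∃ (j : I) (f : j ⟶ i), (D.map f).appLE U (D.map f ⁻¹ᵁ U) le_rfl a ∈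
      B.map ((D.map f).appLE U (D.map f ⁻¹ᵁ U) le_rfl).hom := by
  obtain ⟨j, f, y, hy, hya⟩ := exists_mem_map hc U hU B _ ha
  have h1 : (c.π.app j).appLE (D.map f ⁻¹ᵁ U) (c.π.app i ⁻¹ᵁ U) (le_preimage D c f U)
      ((D.map f).appLE U (D.map f ⁻¹ᵁ U) le_rfl a - y) = 0 := by
    rw [map_sub, hya, appLE_appLE, appLE_congr_hom (c.w f), sub_self]
  obtain ⟨k, g, hg⟩ := exists_appLE_eq_zero hc (hU.preimage (D.map f)).isCompact _ _
    (preimage_preimage D c f U).le (le_preimage D c f U) h1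
  refine ⟨k, g ≫ f, ?_⟩
  have h : D.map (g ≫ f) ⁻¹ᵁ U ≤ D.map g ⁻¹ᵁ D.map f ⁻¹ᵁ U := by
    rw [D.map_comp, Scheme.Hom.comp_preimage]
  rw [map_sub, sub_eq_zero] at hg
  have h2 := congrArg ((D.obj k).presheaf.map (homOfLE h).op) hg
  rw [← ConcreteCategory.comp_apply, Scheme.Hom.appLE_map, appLE_appLE,
    appLE_congr_hom (D.map_comp g f).symm, ← ConcreteCategory.comp_apply, Scheme.Hom.appLE_map] at h2
  rw [h2]
  have h3 := Ideal.mem_map_of_mem ((D.map g).appLE (D.map f ⁻¹ᵁ U) (D.map (g ≫ f) ⁻¹ᵁ U) h).hom hy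
  rw [Ideal.map_map, ← CommRingCat.hom_comp, Scheme.Hom.appLE_comp_appLE] at h3
  convert h3 using 4
  exact D.map_comp g f

/-- Inequalities `A ≤ B` with `A` of finite type descend. -/
theorem exists_comap_le {i : I} [CompactSpace (D.obj i)] (A B : (D.obj i).IdealSheafData)
    (hA : BlowUp.IsFiniteTypeIdeal A) (h : A.comap (c.π.app i) ≤ B.comap (c.π.app i)) :
    ∃ (j : I) (f : j ⟶ i), A.comap (D.map f) ≤ B.comap (D.map f) := by
  classical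
  have haff := isAffineHom_π_app D c hc i
  -- stability
  have hst : ∀ {j k : I} (f : j ⟶ i) (g : k ⟶ j) (U : (D.obj i).affineOpens) (a : Γ(D.obj i, U.1)),
      (D.map f).appLE U (D.map f ⁻¹ᵁ U) le_rfl a ∈ (B.ideal U).map ((D.map f).appLE U (D.map f ⁻¹ᵁ U) le_rfl).hom →
      (D.map (g ≫ f)).appLE U (D.map (g ≫ f) ⁻¹ᵁ U) le_rfl a ∈
        (B.ideal U).map ((D.map (g ≫ f)).appLE U (D.map (g ≫ f) ⁻¹ᵁ U) le_rfl).hom := by
    intro j k f g U a ha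
    have h : D.map (g ≫ f) ⁻¹ᵁ U.1 ≤ D.map g ⁻¹ᵁ D.map f ⁻¹ᵁ U.1 := by
      rw [D.map_comp, Scheme.Hom.comp_preimage]
    have h3 := Ideal.mem_map_of_mem ((D.map g).appLE (D.map f ⁻¹ᵁ U) (D.map (g ≫ f) ⁻¹ᵁ U) h).hom ha
    rw [Ideal.map_map, ← CommRingCat.hom_comp, Scheme.Hom.appLE_comp_appLE] at h3
    convert h3 using 4
    · exact D.map_comp g f
    · have h4 := appLE_appLE (D.map g) (D.map f) le_rfl h a
      exact (h4.trans (appLE_congr_hom (D.map_comp g f).symm _ a)).symm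
  obtain ⟨s, hs⟩ := (isCompact_univ (X := D.obj i)).elim_finite_subcover
    (fun U : (D.obj i).affineOpens => (U.1 : Set (D.obj i))) (fun U => U.1.2) (by
      intro x _
      have h1 : x ∈ ⨆ U : (D.obj i).affineOpens, (U : (D.obj i).Opens) := by
        rw [iSup_affineOpens_eq_top]; trivial
      obtain ⟨U, hU⟩ := Opens.mem_iSup.1 h1
      exact Set.mem_iUnion.2 ⟨U, hU⟩)
  choose G hG using fun U : (D.obj i).affineOpens => hA U
  have h1 : ∀ p : Σ U : s, G U.1, ∃ (j : I) (f : j ⟶ i), (D.map f).appLE p.1.1 (D.map f ⁻¹ᵁ p.1.1) le_rfl p.2.1 ∈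
      (B.ideal p.1.1).map ((D.map f).appLE p.1.1 (D.map f ⁻¹ᵁ p.1.1) le_rfl).hom := by
    rintro ⟨U, a⟩
    refine exists_mem_map_of_mem hc U.1.1 U.1.2 _ _ ?_
    have h2 := h ⟨c.π.app i ⁻¹ᵁ U.1.1, U.1.2.preimage (c.π.app i)⟩
    rw [ideal_comap A (c.π.app i) U.1 ⟨c.π.app i ⁻¹ᵁ U.1.1, U.1.2.preimage (c.π.app i)⟩ le_rfl,
      ideal_comap B (c.π.app i) U.1 ⟨c.π.app i ⁻¹ᵁ U.1.1, U.1.2.preimage (c.π.app i)⟩ le_rfl] at h2
    refine h2 (Ideal.mem_map_of_mem _ ?_)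
    rw [← hG U.1]
    exact Ideal.subset_span a.2
  choose j f hf using h1
  obtain ⟨k, fk, g, hg⟩ := IsCofiltered.wideCospan f
  refine ⟨k, fk, ?_⟩
  refine Scheme.IdealSheafData.le_of_iSup_eq_top
    (fun U : s => ⟨D.map fk ⁻¹ᵁ U.1.1, U.1.2.preimage (D.map fk)⟩) ?_ ?_
  · rw [eq_top_iff]
    intro x _
    have h2 := hs (Set.mem_univ (D.map fk x))
    simp only [Set.mem_iUnion] at h2
    obtain ⟨U, hUs, hU⟩ := h2
    exact Opens.mem_iSup.2 ⟨⟨U, hUs⟩, hU⟩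
  · intro U
    rw [ideal_comap A (D.map fk) U.1 ⟨D.map fk ⁻¹ᵁ U.1.1, U.1.2.preimage (D.map fk)⟩ le_rfl,
      ideal_comap B (D.map fk) U.1 ⟨D.map fk ⁻¹ᵁ U.1.1, U.1.2.preimage (D.map fk)⟩ le_rfl, ← hG U.1, Ideal.map_le_iff_le_comap,
      Ideal.span_le]
    intro a ha
    have h3 := hst (f ⟨U, ⟨a, ha⟩⟩) (g ⟨U, ⟨a, ha⟩⟩) U.1 a (hf ⟨U, ⟨a, ha⟩⟩)
    rw [hg ⟨U, ⟨a, ha⟩⟩] at h3
    exact h3

end K971.LimMod
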