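import Groth.Agent.ModPair.K971.PairLim
import Groth.Agent.ModPair.K971.LimBlow

/-!
# Base change of abstract admissible blow-ups along a cofiltered system of modulus pairs

* `isPullback_base`: `basePair s g` is the fibre product in the category of modulus pairs.
* `E' s`: the diagram of base changes.
* `isLimitCone'`.
-/

set_option autoImplicit false

universe u

open CategoryTheory CategoryTheory.Limits AlgebraicGeometry TopologicalSpace

namespace K971.PairBase

open ModPair K971.Basic K971.MProd K971.PairCat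

/-- Base change of an abstract admissible blow-up is the fibre product of modulus pairs. -/
theorem isPullback_base {S T X : Pair.{u}} (s : X ⟶ S) (g : T ⟶ S) (hs : Pair.admBlowup s) :
    IsPullback (baseFst s g hs) (baseSnd s g) s g := by
  have key : ∀ (R : Pair.{u}) (a : R ⟶ X) (b : R ⟶ T), a ≫ s = b ≫ g →
      ∃ l : R ⟶ basePair s g, l ≫ baseFst s g hs = a ∧ l ≫ baseSnd s g = b := by
    intro R a b h
    have h' : a.hom ≫ s.hom = b.hom ≫ g.hom := congrArg Pair.Hom.hom h
    have hl1 : pullback.lift a.hom b.hom h' ≫ pullback.fst s.hom g.hom = a.hom := pullback.lift_fst _ _ _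
    have hl2 : pullback.lift a.hom b.hom h' ≫ pullback.snd s.hom g.hom = b.hom := pullback.lift_snd _ _ _
    obtain ⟨c, hc, -⟩ := existsUnique_lift_of_ambient (I := X.mod) (J := T.mod) R.isEffCartier
      (pullback.lift a.hom b.hom h') (by rw [hl1]; exact a.cond) (by rw [hl2]; exact b.cond)
    have hc' : c ≫ mprodι s.hom g.hom X.mod T.mod = pullback.lift a.hom b.hom h' := hc
    obtain ⟨c, h1, h2⟩ : ∃ c : R.total ⟶ (basePair s g).total, c ≫ (baseFst s g hs).hom = a.hom ∧
        c ≫ (baseSnd s g).hom = b.hom := by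
      refine ⟨c, ?_, ?_⟩
      · change c ≫ mprodι s.hom g.hom X.mod T.mod ≫ pullback.fst s.hom g.hom = a.hom
        rw [← Category.assoc, hc', hl1]
      · change c ≫ mprodι s.hom g.hom X.mod T.mod ≫ pullback.snd s.hom g.hom = b.hom
        rw [← Category.assoc, hc', hl2]
    refine ⟨⟨c, ?_⟩, Pair.Hom.ext h1, Pair.Hom.ext h2⟩
    change R.mod ≤ (T.mod.comap (baseSnd s g).hom).comap c
    rw [← Scheme.IdealSheafData.comap_comp, h2]
    exact b.cond
  have hmono := mono_of_admBlowup (baseSnd s g) (admBlowup_baseSnd s g hs)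
  refine ⟨⟨base_w s g hs⟩, ⟨PullbackCone.IsLimit.mk _ (fun c => (key c.pt c.fst c.snd c.condition).choose)
    (fun c => (key c.pt c.fst c.snd c.condition).choose_spec.1)
    (fun c => (key c.pt c.fst c.snd c.condition).choose_spec.2) (fun c m h1 h2 => ?_)⟩⟩
  rw [← cancel_mono (baseSnd s g), h2, (key c.pt c.fst c.snd c.condition).choose_spec.2]

section

variable {K : Type u} [SmallCategory K] (E : K ⥤ Pair.{u}) {i : K} {Z : Pair.{u}} (s : Z ⟶ E.obj i)
  (hs : Pair.admBlowup s)

/-- transition maps of the base change diagram -/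
noncomputable def tr {j k : Over i} (u : j ⟶ k) : basePair s (E.map j.hom) ⟶ basePair s (E.map k.hom) :=
  (isPullback_base s (E.map k.hom) hs).lift (baseFst s (E.map j.hom) hs) (baseSnd s (E.map j.hom) ≫ E.map u.left) (by
    rw [Category.assoc, ← E.map_comp, Over.w u, base_w])

lemma tr_fst {j k : Over i} (u : j ⟶ k) : tr E s hs u ≫ baseFst s (E.map k.hom) hs = baseFst s (E.map j.hom) hs :=
  (isPullback_base s (E.map k.hom) hs).lift_fst _ _ _

lemma tr_snd {j k : Over i} (u : j ⟶ k) :
    tr E s hs u ≫ baseSnd s (E.map k.hom) = baseSnd s (E.map j.hom) ≫ E.map u.left :=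
  (isPullback_base s (E.map k.hom) hs).lift_snd _ _ _

/-- the base change diagram -/
noncomputable def diag : Over i ⥤ Pair.{u} where
  obj j := basePair s (E.map j.hom)
  map u := tr E s hs u
  map_id j := by
    have := mono_of_admBlowup (baseSnd s (E.map j.hom)) (admBlowup_baseSnd s (E.map j.hom) hs)
    rw [← cancel_mono (baseSnd s (E.map j.hom)), tr_snd]
    simp
  map_comp {_ _ l} u v := by
    have := mono_of_admBlowup (baseSnd s (E.map l.hom)) (admBlowup_baseSnd s (E.map l.hom) hs)
    rw [← cancel_mono (baseSnd s (E.map l.hom)), tr_snd, Category.assoc, tr_snd, ← Category.assoc, tr_snd]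
    simp

/-- the projection -/
noncomputable def proj : diag E s hs ⟶ Over.forget i ⋙ E where
  app j := baseSnd s (E.map j.hom)
  naturality j k u := tr_snd E s hs u

variable (c : Cone E)

/-- projections of the base change cone -/
noncomputable def coneπ (j : Over i) : basePair s (c.π.app i) ⟶ basePair s (E.map j.hom) :=
  (isPullback_base s (E.map j.hom) hs).lift (baseFst s (c.π.app i) hs) (baseSnd s (c.π.app i) ≫ c.π.app j.left) (by
    rw [Category.assoc, c.w]
    exact base_w s (c.π.app i) hs)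

lemma coneπ_fst (j : Over i) : coneπ E s hs c j ≫ baseFst s (E.map j.hom) hs = baseFst s (c.π.app i) hs :=
  (isPullback_base s (E.map j.hom) hs).lift_fst _ _ _

lemma coneπ_snd (j : Over i) :
    coneπ E s hs c j ≫ baseSnd s (E.map j.hom) = baseSnd s (c.π.app i) ≫ c.π.app j.left :=
  (isPullback_base s (E.map j.hom) hs).lift_snd _ _ _

/-- the base change cone -/
noncomputable def cone : Cone (diag E s hs) where
  pt := basePair s (c.π.app i)
  π :=
    { app := fun j => coneπ E s hs c j
      naturality := fun j k u => by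
        have := mono_of_admBlowup (baseSnd s (E.map k.hom)) (admBlowup_baseSnd s (E.map k.hom) hs)
        change 𝟙 _ ≫ coneπ E s hs c k = coneπ E s hs c j ≫ tr E s hs u
        rw [← cancel_mono (baseSnd s (E.map k.hom)), Category.id_comp, Category.assoc, tr_snd, coneπ_snd,
          ← Category.assoc, coneπ_snd, Category.assoc, c.w] }

lemma isPullback_coneπ (j : Over i) :
    IsPullback (coneπ E s hs c j) (baseSnd s (c.π.app i)) (baseSnd s (E.map j.hom)) (c.π.app j.left) := by
  refine IsPullback.of_right (h₁₂ := baseFst s (E.map j.hom) hs) (v₁₃ := s) (h₂₂ := E.map j.hom) ?_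
    (coneπ_snd E s hs c j) (isPullback_base s (E.map j.hom) hs)
  rw [coneπ_fst]
  have e : c.π.app j.left ≫ E.map j.hom = c.π.app i := c.w j.hom
  rw [e]
  exact isPullback_base s (c.π.app i) hs

/-- the base change cone is a limit -/
noncomputable def isLimitCone [IsCofiltered K] (hc : IsLimit c) : IsLimit (cone E s hs c) :=
  have : IsConnected (Over i) := isConnected_of_hasTerminal _
  isLimitOfIsPullbackOfIsConnected (proj E s hs) (cone E s hs c) (c.whisker (Over.forget i))
    { hom := baseSnd s (c.π.app i)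
      w := fun j => (coneπ_snd E s hs c j).symm }
    (fun j => isPullback_coneπ E s hs c j)
    ((Functor.Initial.isLimitWhiskerEquiv (Over.forget i) c).symm hc)

omit [SmallCategory K] in
/-- the closed immersion of the base change into the fibre product of schemes -/
theorem exists_baseι {S T X : Pair.{u}} (s : X ⟶ S) (g : T ⟶ S) (hs : Pair.admBlowup s) :
    ∃ a : (basePair s g).total ⟶ pullback s.hom g.hom, IsClosedImmersion a ∧
      a ≫ pullback.fst s.hom g.hom = (baseFst s g hs).hom ∧ a ≫ pullback.snd s.hom g.hom = (baseSnd s g).hom :=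
  ⟨mprodι s.hom g.hom X.mod T.mod, inferInstanceAs (IsClosedImmersion (mprodι s.hom g.hom X.mod T.mod)), rfl, rfl⟩

theorem isAffineHom_tr {j k : Over i} (u : j ⟶ k) (h : IsAffineHom (E.map u.left).hom) :
    IsAffineHom (tr E s hs u).hom := by
  have hw : (E.map u.left).hom ≫ (E.map k.hom).hom = (E.map j.hom).hom := by
    have := congrArg Pair.Hom.hom (E.map_comp u.left k.hom)
    rw [Over.w u] at this
    exact this.symm
  let m : pullback s.hom (E.map j.hom).hom ⟶ pullback s.hom (E.map k.hom).hom :=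
    pullback.lift (pullback.fst _ _) (pullback.snd _ _ ≫ (E.map u.left).hom) (by
      rw [Category.assoc, hw, pullback.condition])
  have hm1 : m ≫ pullback.fst _ _ = pullback.fst _ _ := pullback.lift_fst _ _ _
  have hm2 : m ≫ pullback.snd _ _ = pullback.snd _ _ ≫ (E.map u.left).hom := pullback.lift_snd _ _ _
  have hm : IsPullback m (pullback.snd s.hom (E.map j.hom).hom) (pullback.snd s.hom (E.map k.hom).hom)
      (E.map u.left).hom := by
    refine IsPullback.of_right (h₁₂ := pullback.fst s.hom (E.map k.hom).hom) (v₁₃ := s.hom) (h₂₂ := (E.map k.hom).hom)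
      ?_ hm2 (IsPullback.of_hasPullback _ _)
    rw [hm1, hw]
    exact IsPullback.of_hasPullback _ _
  have hma : IsAffineHom m := MorphismProperty.of_isPullback (P := @IsAffineHom) hm.flip h
  obtain ⟨a, ha, ha1, ha2⟩ := exists_baseι s (E.map j.hom) hs
  obtain ⟨b, hb, hb1, hb2⟩ := exists_baseι s (E.map k.hom) hs
  have h1 : (tr E s hs u).hom ≫ b = a ≫ m := by
    apply pullback.hom_ext
    · rw [Category.assoc, Category.assoc, hm1, hb1, ha1]
      exact congrArg Pair.Hom.hom (tr_fst E s hs u)
    · rw [Category.assoc, Category.assoc, hm2, hb2, ← Category.assoc, ha2]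
      exact congrArg Pair.Hom.hom (tr_snd E s hs u)
  have h2 : IsAffineHom ((tr E s hs u).hom ≫ b) := by
    rw [h1]
    infer_instance
  have h3 : IsSeparated b := inferInstance
  exact MorphismProperty.of_postcomp (W := @IsAffineHom) (W' := @IsSeparated) _ b h3 h2

theorem isMinimal_tr {j k : Over i} (u : j ⟶ k)
    (h : IsMinimal (E.obj j.left).mod (E.obj k.left).mod (E.map u.left).hom) :
    IsMinimal (basePair s (E.map j.hom)).mod (basePair s (E.map k.hom)).mod (tr E s hs u).hom := by
  have h1 : (tr E s hs u).hom ≫ (baseSnd s (E.map k.hom)).hom = (baseSnd s (E.map j.hom)).hom ≫ (E.map u.left).hom :=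
    congrArg Pair.Hom.hom (tr_snd E s hs u)
  have h2 : (basePair s (E.map j.hom)).mod = (E.obj j.left).mod.comap (baseSnd s (E.map j.hom)).hom := rfl
  have h3 : (basePair s (E.map k.hom)).mod = (E.obj k.left).mod.comap (baseSnd s (E.map k.hom)).hom := rfl
  change _ = _
  rw [h2, h3, show (E.obj j.left).mod = _ from h, ← Scheme.IdealSheafData.comap_comp, ← Scheme.IdealSheafData.comap_comp,
    h1]

theorem dominant_tr {j k : Over i} (u : j ⟶ k)
    (h : IsMinimal (E.obj j.left).mod (E.obj k.left).mod (E.map u.left).hom)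
    (hd : IsSchemeTheoreticallyDominant (E.map u.left).hom) (hq : QuasiCompact (E.map u.left).hom) :
    IsSchemeTheoreticallyDominant (tr E s hs u).hom :=
  K971.EpiDom.dominant_of_square (basePair s (E.map j.hom)).isEffCartier (basePair s (E.map k.hom)).isEffCartier
    (admBlowup_baseSnd s (E.map j.hom) hs) (admBlowup_baseSnd s (E.map k.hom) hs) (E.map u.left).hom h _
    (congrArg Pair.Hom.hom (tr_snd E s hs u))

end

theorem compactSpace_base {S T X : Pair.{u}} (s : X ⟶ S) (g : T ⟶ S) (hs : Pair.admBlowup s)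
    [CompactSpace T.total] : CompactSpace (basePair s g).total := by
  have : IsProper (baseSnd s g).hom := (admBlowup_baseSnd s g hs).2.1
  exact QuasiCompact.compactSpace_of_compactSpace (baseSnd s g).hom

theorem quasiSeparatedSpace_base {S T X : Pair.{u}} (s : X ⟶ S) (g : T ⟶ S) (hs : Pair.admBlowup s)
    [QuasiSeparatedSpace T.total] : QuasiSeparatedSpace (basePair s g).total := by
  have : IsProper (baseSnd s g).hom := (admBlowup_baseSnd s g hs).2.1
  exact quasiSeparatedSpace_of_quasiSeparated (baseSnd s g).hom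

/-- Abstract admissible blow-ups of the limit are base changes of abstract admissible blow-ups of a stage. -/
theorem exists_descend {K : Type u} [SmallCategory K] [IsCofiltered K] {E : K ⥤ Pair.{u}} (c : Cone E)
    (hc : IsLimit c) [∀ {i j : K} (f : i ⟶ j), IsAffineHom (E.map f).hom] [∀ i, CompactSpace (E.obj i).total]
    [∀ i, QuasiSeparatedSpace (E.obj i).total]
    (hmin : ∀ {i j : K} (t : i ⟶ j), IsMinimal (E.obj i).mod (E.obj j).mod (E.map t).hom) {X' : Pair.{u}}
    (s₁ : X' ⟶ c.pt) (hs₁ : Pair.admBlowup s₁) :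
    ∃ (i : K) (Z : Pair.{u}) (s : Z ⟶ E.obj i) (_ : Pair.admBlowup s) (h : X' ≅ basePair s (c.π.app i)),
      h.hom ≫ baseSnd s (c.π.app i) = s₁ := by
  obtain ⟨⟨hc'⟩, hm⟩ := K971.PairLim.isLimit_forget hmin c hc
  have : ∀ (i j : K) (t : i ⟶ j), IsAffineHom ((E ⋙ Pair.forget).map t) :=
    fun i j t => inferInstanceAs (IsAffineHom (E.map t).hom)
  have : ∀ i, CompactSpace ((E ⋙ Pair.forget).obj i) := fun i => inferInstanceAs (CompactSpace (E.obj i).total)
  have : ∀ i, QuasiSeparatedSpace ((E ⋙ Pair.forget).obj i) :=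
    fun i => inferInstanceAs (QuasiSeparatedSpace (E.obj i).total)
  have hm1 : X'.mod = c.pt.mod.comap s₁.hom := hs₁.1
  have hs₁' : IsAdmBlowup (c.pt.mod.comap s₁.hom) c.pt.mod s₁.hom := by rw [← hm1]; exact hs₁
  have hEff : BlowUp.IsEffCartierIdeal (c.pt.mod.comap s₁.hom) := by rw [← hm1]; exact X'.isEffCartier
  obtain ⟨i, Yi, IYi, si, hYi, hsi, e, he⟩ : ∃ (i : K) (Yi : Scheme.{u}) (IYi : Yi.IdealSheafData)
      (si : Yi ⟶ (E.obj i).total), BlowUp.IsEffCartierIdeal IYi ∧ ModPair.IsAdmBlowup IYi (E.obj i).mod si ∧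
        ∃ e : X'.total ≅ ModPair.mprod (c.π.app i).hom si c.pt.mod IYi,
          e.hom ≫ ModPair.mprodι (c.π.app i).hom si c.pt.mod IYi ≫ pullback.fst (c.π.app i).hom si = s₁.hom :=
    K971.LimBlow.exists_descend (E ⋙ Pair.forget) (Pair.forget.mapCone c) hc' (fun k => (E.obj k).mod)
      (fun k => (E.obj k).isEffCartier) (fun i j t => hmin t) c.pt.mod (fun k => hm k) s₁.hom
      hEff hs₁'
  let Z : Pair.{u} := ⟨Yi, IYi, hYi⟩
  let s : Z ⟶ E.obj i := ⟨si, le_of_eq hsi.1⟩
  have hs : Pair.admBlowup s := hsi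
  let r : X'.total ⟶ Yi := e.hom ≫ mprodι (c.π.app i).hom si c.pt.mod IYi ≫ pullback.snd (c.π.app i).hom si
  have hr : r ≫ si = s₁.hom ≫ (c.π.app i).hom := by
    rw [← he]
    simp only [r, Category.assoc, pullback.condition]
  have hrc : X'.mod ≤ IYi.comap r := by
    rw [show IYi = (E.obj i).mod.comap si from hsi.1, ← Scheme.IdealSheafData.comap_comp, hr,
      Scheme.IdealSheafData.comap_comp, hm1]
    exact Scheme.IdealSheafData.comap_mono _ (le_of_eq (hm i))
  let h₁ : X' ⟶ basePair s (c.π.app i) := (isPullback_base s (c.π.app i) hs).lift (⟨r, hrc⟩ : X' ⟶ Z) s₁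
    (Pair.Hom.ext hr)
  have hh₁ : h₁ ≫ baseSnd s (c.π.app i) = s₁ := (isPullback_base s (c.π.app i) hs).lift_snd _ _ _
  have hw : (baseSnd s (c.π.app i)).hom ≫ (c.π.app i).hom = (baseFst s (c.π.app i) hs).hom ≫ si :=
    (congrArg Pair.Hom.hom (base_w s (c.π.app i) hs)).symm
  have hl1 : pullback.lift _ _ hw ≫ pullback.fst (c.π.app i).hom si = (baseSnd s (c.π.app i)).hom :=
    pullback.lift_fst _ _ _
  have hl2 : pullback.lift _ _ hw ≫ pullback.snd (c.π.app i).hom si = (baseFst s (c.π.app i) hs).hom :=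
    pullback.lift_snd _ _ _
  obtain ⟨a, ha, -⟩ := existsUnique_lift_of_ambient (I := c.pt.mod) (J := IYi)
    (basePair s (c.π.app i)).isEffCartier (pullback.lift _ _ hw) (by rw [hl1]; exact (baseSnd s (c.π.app i)).cond)
    (by rw [hl2]; exact (baseFst s (c.π.app i) hs).cond)
  have ha' : (a ≫ e.inv) ≫ s₁.hom = (baseSnd s (c.π.app i)).hom := by
    rw [← he, Category.assoc, Iso.inv_hom_id_assoc, ← Category.assoc]
    have ha2 : a ≫ mprodι (c.π.app i).hom si c.pt.mod IYi = pullback.lift _ _ hw := ha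
    rw [ha2, hl1]
  let h₂ : basePair s (c.π.app i) ⟶ X' := ⟨a ≫ e.inv, by
    change _ ≤ _
    rw [hm1, ← Scheme.IdealSheafData.comap_comp, ha']
    exact (baseSnd s (c.π.app i)).cond⟩
  have hh₂ : h₂ ≫ s₁ = baseSnd s (c.π.app i) := Pair.Hom.ext ha'
  have hmono1 := mono_of_admBlowup s₁ hs₁
  have hmono2 := mono_of_admBlowup (baseSnd s (c.π.app i)) (admBlowup_baseSnd s (c.π.app i) hs)
  refine ⟨i, Z, s, hs, ⟨h₁, h₂, ?_, ?_⟩, hh₁⟩
  · rw [← cancel_mono s₁, Category.assoc, hh₂, hh₁, Category.id_comp]
  · rw [← cancel_mono (baseSnd s (c.π.app i)), Category.assoc, hh₁, hh₂, Category.id_comp]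

end K971.PairBase
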