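import Groth.Agent.ModPair.K971.MProd
import Mathlib.CategoryTheory.Localization.CalculusOfFractions

/-!
# The class of abstract admissible blow-ups in the category of modulus pairs

* `isAdmBlowup_id`, `isAdmBlowup_comp`, `isAdmBlowup_of_isIso`.
* `hom_ext_of_admBlowup`: abstract admissible blow-ups are monomorphisms of modulus pairs.
* `base`: the pull-back of an abstract admissible blow-up along an ambient morphism.
* `hasRightCalculus`: instance `HasRightCalculusOfFractions`.
-/

set_option autoImplicit false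

universe u

open CategoryTheory CategoryTheory.Limits AlgebraicGeometry TopologicalSpace

namespace K971.PairCat

open ModPair K971.Basic K971.MProd

variable {X Y Z W S T P : Scheme.{u}}

theorem isAdmBlowup_id (I : X.IdealSheafData) : IsAdmBlowup I I (𝟙 X) :=
  ⟨isMinimal_id I, inferInstance, inferInstance⟩

theorem isAdmBlowup_of_isIso {I : X.IdealSheafData} {J : Y.IdealSheafData} (f : X ⟶ Y) [IsIso f]
    (h : IsMinimal I J f) : IsAdmBlowup I J f :=
  ⟨h, inferInstance, inferInstance⟩

theorem isAdmBlowup_comp {I : X.IdealSheafData} {J : Y.IdealSheafData} {K : Z.IdealSheafData} {f : X ⟶ Y}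
    {g : Y ⟶ Z} (hf : IsAdmBlowup I J f) (hg : IsAdmBlowup J K g) : IsAdmBlowup I K (f ≫ g) := by
  obtain ⟨hf1, hf2, hf3⟩ := hf
  obtain ⟨hg1, hg2, hg3⟩ := hg
  refine ⟨isMinimal_comp hf1 hg1, inferInstance, ?_⟩
  rw [morphismRestrict_comp]
  have h : IsIso (f ∣_ (g ⁻¹ᵁ interior K)) := by
    rw [← minimal_interior_eq hg1]
    exact hf3
  exact IsIso.comp_isIso' h hg3

/-- Two ambient morphisms into the source of an abstract admissible blow-up with equal composites agree. -/
theorem hom_ext_of_admBlowup {I : X.IdealSheafData} (hI : BlowUp.IsEffCartierIdeal I) {J : Y.IdealSheafData}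
    {K : Z.IdealSheafData} {f g : X ⟶ Y} {s : Y ⟶ Z} (hs : IsAdmBlowup J K s) (hf : IsAmbient I J f)
    (h : f ≫ s = g ≫ s) : f = g := by
  obtain ⟨h1, h2, h3⟩ := hs
  refine hom_ext_interior hI s h ?_
  refine Groth.Agent.Flat2C.ClosureIso.eq_of_mono_restrict (φ := s) (interior K) (by simp only [Category.assoc, h]) ?_
  intro t
  have h4 : interior I ≤ f ⁻¹ᵁ (s ⁻¹ᵁ interior K) := by
    rw [← minimal_interior_eq h1]
    exact ambient_interior_le hf
  exact h4 t.2

/-- Every abstract admissible blow-up is a monomorphism in the category of modulus pairs. -/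
theorem mono_of_admBlowup {P Q : Pair.{u}} (s : P ⟶ Q) (hs : Pair.admBlowup s) : Mono s where
  right_cancellation := fun {R} f g h => by
    apply Pair.Hom.ext
    refine hom_ext_of_admBlowup R.isEffCartier hs f.cond ?_
    have := congrArg Pair.Hom.hom h
    exact this

/-- The projection of the base change to the source of the blow-up is ambient. -/
theorem isAmbient_base_fst {IS : S.IdealSheafData} {IX : X.IdealSheafData} {IT : T.IdealSheafData} {s : X ⟶ S}
    {g : T ⟶ S} (hs : IsMinimal IX IS s) (hg : IsAmbient IT IS g) {P : Scheme.{u}} (q : P ⟶ T) (r : P ⟶ X)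
    (h : r ≫ s = q ≫ g) : IsAmbient (IT.comap q) IX r := by
  change _ ≤ _
  rw [show IX = IS.comap s from hs, ← Scheme.IdealSheafData.comap_comp, h, Scheme.IdealSheafData.comap_comp _ _ g]
  exact Scheme.IdealSheafData.comap_mono _ hg

lemma mprod_w (f : X ⟶ S) (g : T ⟶ S) (I : X.IdealSheafData) (J : T.IdealSheafData) :
    (mprodι f g I J ≫ pullback.fst f g) ≫ f = (mprodι f g I J ≫ pullback.snd f g) ≫ g := by
  rw [Category.assoc, Category.assoc, pullback.condition]

/-- The vertex of the base change of an abstract admissible blow-up. -/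
noncomputable def basePair {S T X : Pair.{u}} (s : X ⟶ S) (g : T ⟶ S) : Pair.{u} where
  total := mprod s.hom g.hom X.mod T.mod
  mod := T.mod.comap (mprodι s.hom g.hom X.mod T.mod ≫ pullback.snd s.hom g.hom)
  isEffCartier := isEff_comap_snd (locPrin_of_isEff X.isEffCartier) (locPrin_of_isEff T.isEffCartier)

/-- projection to `T`, minimal -/
noncomputable def baseSnd {S T X : Pair.{u}} (s : X ⟶ S) (g : T ⟶ S) : basePair s g ⟶ T where
  hom := mprodι s.hom g.hom X.mod T.mod ≫ pullback.snd s.hom g.hom
  cond := le_rfl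

theorem admBlowup_baseSnd {S T X : Pair.{u}} (s : X ⟶ S) (g : T ⟶ S) (hs : Pair.admBlowup s) :
    Pair.admBlowup (baseSnd s g) := by
  obtain ⟨hmin, hprop, hiso⟩ := hs
  refine ⟨rfl, ?_, ?_⟩
  · change IsProper (mprodι s.hom g.hom X.mod T.mod ≫ pullback.snd s.hom g.hom)
    infer_instance
  · exact isIso_mprod_snd_restrict (locPrin_of_isEff X.isEffCartier) (locPrin_of_isEff T.isEffCartier) hmin g.cond

/-- projection to `X` when `s` is minimal -/
noncomputable def baseFst {S T X : Pair.{u}} (s : X ⟶ S) (g : T ⟶ S) (hs : Pair.admBlowup s) : basePair s g ⟶ X where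
  hom := mprodι s.hom g.hom X.mod T.mod ≫ pullback.fst s.hom g.hom
  cond := isAmbient_base_fst hs.1 g.cond _ _ (mprod_w s.hom g.hom X.mod T.mod)

lemma base_w {S T X : Pair.{u}} (s : X ⟶ S) (g : T ⟶ S) (hs : Pair.admBlowup s) :
    baseFst s g hs ≫ s = baseSnd s g ≫ g := by
  apply Pair.Hom.ext
  exact mprod_w s.hom g.hom X.mod T.mod

instance : (Pair.admBlowup.{u}).IsMultiplicative where
  id_mem P := isAdmBlowup_id P.mod
  comp_mem _ _ hf hg := isAdmBlowup_comp hf hg

instance hasRightCalculus : (Pair.admBlowup.{u}).HasRightCalculusOfFractions where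
  exists_rightFraction X Y φ := by
    refine ⟨⟨baseSnd φ.s φ.f, admBlowup_baseSnd φ.s φ.f φ.hs, baseFst φ.s φ.f φ.hs⟩, ?_⟩
    exact (base_w φ.s φ.f φ.hs).symm
  ext X Y Y' f₁ f₂ s hs h := by
    have := mono_of_admBlowup s hs
    refine ⟨X, 𝟙 X, (Pair.admBlowup.{u}).id_mem X, ?_⟩
    rw [(cancel_mono s).1 h]

end K971.PairCat
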