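import Groth.Agent.ModPair.K971.PairBase

/-!
# Morphisms in the localised category out of cofiltered limits of modulus pairs
-/

set_option autoImplicit false

universe u v₂ u₂

open CategoryTheory CategoryTheory.Limits AlgebraicGeometry TopologicalSpace

namespace K971.PairHom

open ModPair K971.Basic K971.MProd K971.PairCat K971.PairBase

variable {𝒟 : Type u₂} [Category.{v₂} 𝒟] (L : Pair.{u} ⥤ 𝒟) [L.IsLocalization Pair.admBlowup.{u}]
  {K : Type u} [SmallCategory K] [IsCofiltered K] {E : K ⥤ Pair.{u}} {S : Pair.{u}}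
  (t : E ⟶ (Functor.const K).obj S) {c : Cone E} (hc : IsLimit c)
  [∀ {i j : K} (f : i ⟶ j), IsAffineHom (E.map f).hom] [∀ i, CompactSpace (E.obj i).total]
  [∀ i, QuasiSeparatedSpace (E.obj i).total]
  (hmin : ∀ {i j : K} (t : i ⟶ j), IsMinimal (E.obj i).mod (E.obj j).mod (E.map t).hom)

include hc hmin

theorem exists_fac_loc [QuasiSeparatedSpace S.total] {Y : Pair.{u}} (y : Y ⟶ S) [LocallyOfFiniteType y.hom]
    [CompactSpace Y.total] [QuasiSeparatedSpace Y.total]
    (h : (∀ {i j : K} (f : i ⟶ j), IsSchemeTheoreticallyDominant (E.map f).hom) ∨ LocallyOfFinitePresentation y.hom)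
    (φ : L.obj c.pt ⟶ L.obj Y) (hφ : ∀ k, φ ≫ L.map y = L.map (c.π.app k ≫ t.app k)) :
    ∃ (k : K) (φk : L.obj (E.obj k) ⟶ L.obj Y), φk ≫ L.map y = L.map (t.app k) ∧ L.map (c.π.app k) ≫ φk = φ := by
  obtain ⟨χ, hχ⟩ := Localization.exists_rightFraction L Pair.admBlowup.{u} φ
  have hinv := Localization.inverts L Pair.admBlowup.{u}
  have h1 : L.map χ.s ≫ φ = L.map χ.f := by
    rw [hχ]
    exact χ.map_s_comp_map L hinv
  obtain ⟨i, Z, s, hs, e, he⟩ := exists_descend c hc hmin χ.s χ.hs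
  -- the base change diagram
  have haff : ∀ {j k : Over i} (f : j ⟶ k), IsAffineHom ((diag E s hs).map f).hom :=
    fun f => isAffineHom_tr E s hs f inferInstance
  have hcpt : ∀ j, CompactSpace ((diag E s hs).obj j).total := fun j => compactSpace_base s (E.map j.hom) hs
  have hqs : ∀ j, QuasiSeparatedSpace ((diag E s hs).obj j).total :=
    fun j => quasiSeparatedSpace_base s (E.map j.hom) hs
  have hmin' : ∀ {j k : Over i} (f : j ⟶ k),
      IsMinimal ((diag E s hs).obj j).mod ((diag E s hs).obj k).mod ((diag E s hs).map f).hom :=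
    fun f => isMinimal_tr E s hs f (hmin _)
  let t' : diag E s hs ⟶ (Functor.const (Over i)).obj S :=
    { app := fun j => baseSnd s (E.map j.hom) ≫ t.app j.left
      naturality := fun j k f => by
        have h2 := t.naturality f.left
        change tr E s hs f ≫ baseSnd s (E.map k.hom) ≫ t.app k.left = (baseSnd s (E.map j.hom) ≫ t.app j.left) ≫ 𝟙 _
        rw [← Category.assoc, tr_snd, Category.assoc, h2]
        simp }
  have h' : (∀ {j k : Over i} (f : j ⟶ k), IsSchemeTheoreticallyDominant ((diag E s hs).map f).hom) ∨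
      LocallyOfFinitePresentation y.hom := by
    rcases h with h | h
    · exact Or.inl (fun f => dominant_tr E s hs f (hmin _) (h _) inferInstance)
    · exact Or.inr h
  have hf : ∀ k, (e.inv ≫ χ.f) ≫ y = (cone E s hs c).π.app k ≫ t'.app k := by
    intro k
    apply K971.EpiDom.eq_of_map_eq L
    have h3 : (cone E s hs c).π.app k ≫ t'.app k = e.inv ≫ χ.s ≫ c.π.app k.left ≫ t.app k.left := by
      have h4 : (cone E s hs c).π.app k ≫ t'.app k =
        (coneπ E s hs c k ≫ baseSnd s (E.map k.hom)) ≫ t.app k.left := (Category.assoc _ _ _).symm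
      rw [h4, coneπ_snd, ← he, Category.assoc, Category.assoc, Iso.inv_hom_id_assoc]
    rw [h3, L.map_comp, L.map_comp, ← h1, L.map_comp, L.map_comp χ.s, ← hφ k.left]
    simp only [Category.assoc]
  obtain ⟨k, fk, hk1, hk2⟩ : ∃ (k : Over i) (fk : basePair s (E.map k.hom) ⟶ Y),
      fk ≫ y = baseSnd s (E.map k.hom) ≫ t.app k.left ∧ coneπ E s hs c k ≫ fk = e.inv ≫ χ.f :=
    K971.PairLim.exists_fac t' (isLimitCone E s hs c hc) hmin' y h' (e.inv ≫ χ.f) hf
  have hα : IsIso (L.map (baseSnd s (E.map k.hom))) := hinv _ (admBlowup_baseSnd s (E.map k.hom) hs)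
  have hβ : IsIso (L.map (baseSnd s (c.π.app i))) := hinv _ (admBlowup_baseSnd s (c.π.app i) hs)
  refine ⟨k.left, inv (L.map (baseSnd s (E.map k.hom))) ≫ L.map fk, ?_, ?_⟩
  · rw [Category.assoc, ← L.map_comp, hk1, IsIso.inv_comp_eq]
    exact L.map_comp _ _
  · rw [← cancel_epi (L.map (baseSnd s (c.π.app i))), ← Category.assoc, ← L.map_comp, ← coneπ_snd E s hs c k,
      L.map_comp, Category.assoc, IsIso.hom_inv_id_assoc]
    have h5 : L.map (coneπ E s hs c k) ≫ L.map fk = L.map (e.inv ≫ χ.f) := by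
      rw [← L.map_comp, hk2]
    rw [h5, L.map_comp, ← h1, ← Category.assoc, ← L.map_comp]
    congr 2
    rw [← he, Iso.inv_hom_id_assoc]

theorem exists_comp_eq_loc {Y : Pair.{u}} (y : Y ⟶ S) [LocallyOfFiniteType y.hom] {i : K}
    (φ ψ : L.obj (E.obj i) ⟶ L.obj Y) (hφ : φ ≫ L.map y = L.map (t.app i)) (hψ : ψ ≫ L.map y = L.map (t.app i))
    (h : L.map (c.π.app i) ≫ φ = L.map (c.π.app i) ≫ ψ) :
    ∃ (j : K) (f : j ⟶ i), L.map (E.map f) ≫ φ = L.map (E.map f) ≫ ψ := by
  have hinv := Localization.inverts L Pair.admBlowup.{u}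
  obtain ⟨Z, s, hs, f, g, hf, hg⟩ : ∃ (Z : Pair.{u}) (s : Z ⟶ E.obj i) (_ : Pair.admBlowup s) (f g : Z ⟶ Y),
      L.map s ≫ φ = L.map f ∧ L.map s ≫ ψ = L.map g := by
    obtain ⟨χ, h1⟩ := Localization.exists_rightFraction L Pair.admBlowup.{u} φ
    obtain ⟨χ', h2⟩ := Localization.exists_rightFraction L Pair.admBlowup.{u} (L.map χ.s ≫ ψ)
    have h3 := χ.map_s_comp_map L hinv
    have h4 := χ'.map_s_comp_map L hinv
    rw [← h1] at h3
    rw [← h2] at h4
    exact ⟨χ'.X', χ'.s ≫ χ.s, MorphismProperty.comp_mem _ _ _ χ'.hs χ.hs, χ'.s ≫ χ.f, χ'.f,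
      by rw [L.map_comp, L.map_comp, Category.assoc, h3], by rw [L.map_comp, Category.assoc, h4]⟩
  have haff : ∀ {j k : Over i} (f : j ⟶ k), IsAffineHom ((diag E s hs).map f).hom :=
    fun f => isAffineHom_tr E s hs f inferInstance
  have hcpt : ∀ j, CompactSpace ((diag E s hs).obj j).total := fun j => compactSpace_base s (E.map j.hom) hs
  have hmin' : ∀ {j k : Over i} (f : j ⟶ k),
      IsMinimal ((diag E s hs).obj j).mod ((diag E s hs).obj k).mod ((diag E s hs).map f).hom :=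
    fun f => isMinimal_tr E s hs f (hmin _)
  let t' : diag E s hs ⟶ (Functor.const (Over i)).obj S :=
    { app := fun j => baseSnd s (E.map j.hom) ≫ t.app j.left
      naturality := fun j k f => by
        have h2 := t.naturality f.left
        change tr E s hs f ≫ baseSnd s (E.map k.hom) ≫ t.app k.left = (baseSnd s (E.map j.hom) ≫ t.app j.left) ≫ 𝟙 _
        rw [← Category.assoc, tr_snd, Category.assoc, h2]
        simp }
  have hf' : f ≫ y = s ≫ t.app i := by
    apply K971.EpiDom.eq_of_map_eq L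
    rw [L.map_comp, L.map_comp, ← hf, Category.assoc, hφ]
  have hg' : g ≫ y = s ≫ t.app i := by
    apply K971.EpiDom.eq_of_map_eq L
    rw [L.map_comp, L.map_comp, ← hg, Category.assoc, hψ]
  have hfg : baseFst s (c.π.app i) hs ≫ f = baseFst s (c.π.app i) hs ≫ g := by
    apply K971.EpiDom.eq_of_map_eq L
    rw [L.map_comp, L.map_comp, ← hf, ← hg, ← Category.assoc, ← Category.assoc, ← L.map_comp, base_w, L.map_comp,
      Category.assoc, Category.assoc, h]
  have hj₀ : ∀ (a : Z ⟶ Y), a ≫ y = s ≫ t.app i →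
      (baseFst s (E.map (Over.mk (𝟙 i)).hom) hs ≫ a) ≫ y =
        baseSnd s (E.map (Over.mk (𝟙 i)).hom) ≫ t.app (Over.mk (𝟙 i)).left := by
    intro a ha
    have h2 : E.map (Over.mk (𝟙 i)).hom ≫ t.app i = t.app i :=
      (congrArg (fun x => x ≫ t.app i) (E.map_id i)).trans (Category.id_comp _)
    rw [Category.assoc, ha, ← Category.assoc, base_w, Category.assoc]
    exact congrArg (fun x => baseSnd s (E.map (Over.mk (𝟙 i)).hom) ≫ x) h2
  have hqs : ∀ j, QuasiSeparatedSpace ((diag E s hs).obj j).total :=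
    fun j => quasiSeparatedSpace_base s (E.map j.hom) hs
  have hcc : coneπ E s hs c (Over.mk (𝟙 i)) ≫ baseFst s (E.map (Over.mk (𝟙 i)).hom) hs ≫ f =
      coneπ E s hs c (Over.mk (𝟙 i)) ≫ baseFst s (E.map (Over.mk (𝟙 i)).hom) hs ≫ g := by
    rw [← Category.assoc, ← Category.assoc, coneπ_fst, hfg]
  obtain ⟨l, u, hu⟩ : ∃ (l : Over i) (u : l ⟶ Over.mk (𝟙 i)),
      tr E s hs u ≫ baseFst s (E.map (Over.mk (𝟙 i)).hom) hs ≫ f =
        tr E s hs u ≫ baseFst s (E.map (Over.mk (𝟙 i)).hom) hs ≫ g :=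
    K971.PairLim.exists_comp_eq t' (isLimitCone E s hs c hc) hmin' y (i := Over.mk (𝟙 i))
      (baseFst s (E.map (Over.mk (𝟙 i)).hom) hs ≫ f) (baseFst s (E.map (Over.mk (𝟙 i)).hom) hs ≫ g) (hj₀ f hf')
      (hj₀ g hg') hcc
  rw [← Category.assoc, ← Category.assoc, tr_fst] at hu
  have hβ : IsIso (L.map (baseSnd s (E.map l.hom))) := hinv _ (admBlowup_baseSnd s (E.map l.hom) hs)
  refine ⟨l.left, l.hom, ?_⟩
  rw [← cancel_epi (L.map (baseSnd s (E.map l.hom))), ← Category.assoc, ← Category.assoc, ← L.map_comp,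
    ← base_w s (E.map l.hom) hs, L.map_comp, Category.assoc, Category.assoc, hf, hg, ← L.map_comp, hu, L.map_comp]

end K971.PairHom
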