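import Groth.Agent.ModPair.K971.EpiDom
import Groth.Agent.ModPair.K971.LimHom
import Groth.Agent.ModPair.K971.LimMod
import Groth.Agent.S2151

/-!
# Cofiltered limits of modulus pairs with affine minimal transition maps

* `isLimit_forget`: the underlying cone is a limit cone of schemes, and the projections are minimal.
* `exists_fac`, `exists_comp_eq`: morphisms to pairs of finite type.
-/

set_option autoImplicit false

universe u

open CategoryTheory CategoryTheory.Limits AlgebraicGeometry TopologicalSpace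

namespace K971.PairLim

open ModPair K971.Basic K971.MProd K971.PairCat

variable {K : Type u} [SmallCategory K] [IsCofiltered K] {E : K ⥤ Pair.{u}}

/-- the modulus of an isomorphism -/
theorem isMinimal_of_iso {P Q : Pair.{u}} (e : P ≅ Q) : IsMinimal P.mod Q.mod e.hom.hom := by
  refine le_antisymm e.hom.cond ?_
  have h1 := Scheme.IdealSheafData.comap_mono e.hom.hom e.inv.cond
  refine h1.trans ?_
  change (P.mod.comap e.inv.hom).comap e.hom.hom ≤ P.mod
  rw [← Scheme.IdealSheafData.comap_comp]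
  have h2 : e.hom.hom ≫ e.inv.hom = 𝟙 _ := congrArg Pair.Hom.hom e.hom_inv_id
  rw [h2, Scheme.IdealSheafData.comap_id]

theorem comap_eq {X Y Z : Scheme.{u}} {f : X ⟶ Y} {g : Y ⟶ Z} {h : X ⟶ Z} (e : f ≫ g = h) {I : Z.IdealSheafData}
    {J : Y.IdealSheafData} (hJ : J = I.comap g) : I.comap h = J.comap f := by
  rw [← e, Scheme.IdealSheafData.comap_comp, hJ]

theorem exists_limit [∀ {i j : K} (t : i ⟶ j), IsAffineHom (E.map t).hom]
    (hmin : ∀ {i j : K} (t : i ⟶ j), IsMinimal (E.obj i).mod (E.obj j).mod (E.map t).hom) :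
    ∃ (c : Cone E) (_ : IsLimit c), Nonempty (IsLimit (Pair.forget.mapCone c)) ∧
      ∀ k, IsMinimal c.pt.mod (E.obj k).mod (c.π.app k).hom := by
  have haff : ∀ (i j : K) (t : i ⟶ j), IsAffineHom ((E ⋙ Pair.forget).map t) :=
    fun i j t => inferInstanceAs (IsAffineHom (E.map t).hom)
  have : HasLimit (E ⋙ Pair.forget.{u}) := Groth.Agent.S2151.hasLimit _
  let c₀ : Cone (E ⋙ Pair.forget) := limit.cone _
  let hc₀ : IsLimit c₀ := limit.isLimit _
  obtain ⟨k₀⟩ : Nonempty K := IsCofiltered.nonempty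
  have hM : ∀ k, (E.obj k₀).mod.comap (c₀.π.app k₀) = (E.obj k).mod.comap (c₀.π.app k) := by
    intro k
    have h1 := hmin (IsCofiltered.minToLeft k₀ k)
    have h2 := hmin (IsCofiltered.minToRight k₀ k)
    have h3 : c₀.π.app (IsCofiltered.min k₀ k) ≫ (E.map (IsCofiltered.minToLeft k₀ k)).hom = c₀.π.app k₀ :=
      c₀.w (IsCofiltered.minToLeft k₀ k)
    have h4 : c₀.π.app (IsCofiltered.min k₀ k) ≫ (E.map (IsCofiltered.minToRight k₀ k)).hom = c₀.π.app k :=
      c₀.w (IsCofiltered.minToRight k₀ k)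
    exact (comap_eq h3 h1).trans (comap_eq h4 h2).symm
  have hEff : BlowUp.IsEffCartierIdeal ((E.obj k₀).mod.comap (c₀.π.app k₀)) :=
    K971.LimBasic.isEff_limit (D := E ⋙ Pair.forget) hc₀ (fun k => (E.obj k).mod) (fun k => (E.obj k).isEffCartier)
      (fun i j t => hmin t) k₀
  let X₀ : Pair.{u} := ⟨c₀.pt, (E.obj k₀).mod.comap (c₀.π.app k₀), hEff⟩
  let c₁ : Cone E :=
    { pt := X₀
      π :=
        { app := fun k => ⟨c₀.π.app k, (hM k).le⟩
          naturality := fun i j t => by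
            apply Pair.Hom.ext
            exact c₀.π.naturality t } }
  refine ⟨c₁, ?_, ⟨hc₀⟩, fun k => hM k⟩
  exact
    { lift := fun s => ⟨hc₀.lift (Pair.forget.mapCone s), by
        exact (s.π.app k₀).cond.trans (comap_eq (hc₀.fac (Pair.forget.mapCone s) k₀) rfl).le⟩
      fac := fun s j => Pair.Hom.ext (hc₀.fac (Pair.forget.mapCone s) j)
      uniq := fun s m h => Pair.Hom.ext (hc₀.uniq (Pair.forget.mapCone s) m.hom
        (fun j => congrArg Pair.Hom.hom (h j))) }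

theorem isLimit_forget [∀ {i j : K} (t : i ⟶ j), IsAffineHom (E.map t).hom]
    (hmin : ∀ {i j : K} (t : i ⟶ j), IsMinimal (E.obj i).mod (E.obj j).mod (E.map t).hom) (c : Cone E)
    (hc : IsLimit c) :
    Nonempty (IsLimit (Pair.forget.mapCone c)) ∧ ∀ k, IsMinimal c.pt.mod (E.obj k).mod (c.π.app k).hom := by
  obtain ⟨c₁, hc₁, ⟨hc₂⟩, hm⟩ := exists_limit (E := E) hmin
  let e : c ≅ c₁ := hc.uniqueUpToIso hc₁
  refine ⟨⟨IsLimit.ofIsoLimit hc₂ ((Cone.functoriality E Pair.forget).mapIso e.symm)⟩, fun k => ?_⟩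
  have h1 : (e.hom.hom ≫ c₁.π.app k) = c.π.app k := e.hom.w k
  have h2 : IsMinimal c.pt.mod c₁.pt.mod e.hom.hom.hom := isMinimal_of_iso ((Cone.forget E).mapIso e)
  rw [← h1]
  exact isMinimal_comp h2 (hm k)

/-! ### morphisms -/

section scheme

variable {S : Scheme.{u}} {D : K ⥤ Scheme.{u}} (t : D ⟶ (Functor.const K).obj S) {c : Cone D} (hc : IsLimit c)
  [∀ {i j : K} (f : i ⟶ j), IsAffineHom (D.map f)] [∀ i, CompactSpace (D.obj i)]
  [∀ i, QuasiSeparatedSpace (D.obj i)]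

include hc

theorem exists_fac_lfp {Y : Scheme.{u}} (g : Y ⟶ S) [LocallyOfFinitePresentation g] (φ : c.pt ⟶ Y)
    (hφ : ∀ k, φ ≫ g = c.π.app k ≫ t.app k) :
    ∃ (k : K) (φk : D.obj k ⟶ Y), φk ≫ g = t.app k ∧ c.π.app k ≫ φk = φ := by
  obtain ⟨k, a, h1, h2⟩ := Scheme.exists_π_app_comp_eq_of_locallyOfFinitePresentation D
    t g _ hc φ (by
      ext i : 2
      exact (hφ i).symm)
  exact ⟨k, a, h2, h1⟩

theorem exists_fac_scheme [QuasiSeparatedSpace S] {Y : Scheme.{u}} (g : Y ⟶ S) [LocallyOfFiniteType g]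
    [CompactSpace Y] [QuasiSeparatedSpace Y]
    (h : (∀ {i j : K} (f : i ⟶ j), IsSchemeTheoreticallyDominant (D.map f)) ∨ LocallyOfFinitePresentation g)
    (φ : c.pt ⟶ Y) (hφ : ∀ k, φ ≫ g = c.π.app k ≫ t.app k) :
    ∃ (k : K) (φk : D.obj k ⟶ Y), φk ≫ g = t.app k ∧ c.π.app k ≫ φk = φ := by
  rcases h with h | h
  · obtain ⟨Y', f', j, h1, h2, h3, h4, h5⟩ := Groth.Agent.S2078.result g
    obtain ⟨i, φi, hφi1, hφi2⟩ := exists_fac_lfp t hc f' (φ ≫ j) (fun k => by rw [Category.assoc, h5, hφ k])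
    have hdom : IsSchemeTheoreticallyDominant (c.π.app i) :=
      K971.LimBasic.dominant_π hc i
    have hker : j.ker ≤ φi.ker := by
      have h6 : (c.π.app i ≫ φi).ker = φi.ker := by
        rw [Scheme.Hom.ker_comp, Scheme.Hom.ker_eq_bot, Scheme.IdealSheafData.map_bot]
      rw [← h6, hφi2]
      exact Scheme.Hom.le_ker_comp _ _
    refine ⟨i, IsClosedImmersion.lift j φi hker, ?_, ?_⟩
    · rw [← h5, IsClosedImmersion.lift_fac_assoc]
      exact hφi1
    · rw [← cancel_mono j, Category.assoc, IsClosedImmersion.lift_fac]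
      exact hφi2
  · exact exists_fac_lfp t hc g φ hφ

end scheme

variable {S : Pair.{u}} (t : E ⟶ (Functor.const K).obj S) {c : Cone E} (hc : IsLimit c)
  [∀ {i j : K} (f : i ⟶ j), IsAffineHom (E.map f).hom] [∀ i, CompactSpace (E.obj i).total]
  [∀ i, QuasiSeparatedSpace (E.obj i).total]
  (hmin : ∀ {i j : K} (t : i ⟶ j), IsMinimal (E.obj i).mod (E.obj j).mod (E.map t).hom)

include hc hmin

/-- S18745 for modulus pairs over a modulus pair. -/
theorem exists_fac [QuasiSeparatedSpace S.total] {Y : Pair.{u}} (y : Y ⟶ S) [LocallyOfFiniteType y.hom]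
    [CompactSpace Y.total] [QuasiSeparatedSpace Y.total]
    (h : (∀ {i j : K} (f : i ⟶ j), IsSchemeTheoreticallyDominant (E.map f).hom) ∨ LocallyOfFinitePresentation y.hom)
    (φ : c.pt ⟶ Y) (hφ : ∀ k, φ ≫ y = c.π.app k ≫ t.app k) :
    ∃ (k : K) (φk : E.obj k ⟶ Y), φk ≫ y = t.app k ∧ c.π.app k ≫ φk = φ := by
  obtain ⟨⟨hc'⟩, hm⟩ := isLimit_forget hmin c hc
  have : ∀ {i j : K} (t : i ⟶ j), IsAffineHom ((E ⋙ Pair.forget).map t) :=
    fun t => inferInstanceAs (IsAffineHom (E.map t).hom)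
  have : ∀ i, CompactSpace ((E ⋙ Pair.forget).obj i) := fun i => inferInstanceAs (CompactSpace (E.obj i).total)
  have : ∀ i, QuasiSeparatedSpace ((E ⋙ Pair.forget).obj i) :=
    fun i => inferInstanceAs (QuasiSeparatedSpace (E.obj i).total)
  let t' : E ⋙ Pair.forget ⟶ (Functor.const K).obj S.total :=
    { app := fun k => (t.app k).hom
      naturality := fun i j f => congrArg Pair.Hom.hom (t.naturality f) }
  obtain ⟨i, φi, h1, h2⟩ : ∃ (i : K) (φi : (E.obj i).total ⟶ Y.total), φi ≫ y.hom = (t.app i).hom ∧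
      (c.π.app i).hom ≫ φi = φ.hom :=
    exists_fac_scheme t' hc' y.hom h φ.hom (fun k => congrArg Pair.Hom.hom (hφ k))
  have h3 : (E.obj i).mod.comap (c.π.app i).hom ≤ (Y.mod.comap φi).comap (c.π.app i).hom := by
    rw [← Scheme.IdealSheafData.comap_comp]
    rw [h2, ← show c.pt.mod = (E.obj i).mod.comap (c.π.app i).hom from hm i]
    exact φ.cond
  obtain ⟨j, f, hf⟩ : ∃ (j : K) (f : j ⟶ i), (E.obj i).mod.comap (E.map f).hom ≤
      (Y.mod.comap φi).comap (E.map f).hom := K971.LimMod.exists_comap_le hc' (i := i) (E.obj i).mod (Y.mod.comap φi)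
    (Groth.Agent.Flat2C.TorsIdeal.isFiniteTypeIdeal_of_isEff (E.obj i).isEffCartier) h3
  refine ⟨j, ⟨(E.map f).hom ≫ φi, ?_⟩, ?_, ?_⟩
  · change _ ≤ _
    rw [show (E.obj j).mod = _ from hmin f, Scheme.IdealSheafData.comap_comp]
    exact hf
  · apply Pair.Hom.ext
    change ((E.map f).hom ≫ φi) ≫ y.hom = (t.app j).hom
    rw [Category.assoc]
    rw [h1]
    have h6 := congrArg Pair.Hom.hom (t.naturality f)
    exact h6.trans (Category.comp_id _)
  · apply Pair.Hom.ext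
    change (c.π.app j).hom ≫ (E.map f).hom ≫ φi = φ.hom
    have h5 : (c.π.app j).hom ≫ (E.map f).hom = (c.π.app i).hom := congrArg Pair.Hom.hom (c.w f)
    rw [← Category.assoc, h5, h2]

theorem exists_comp_eq {Y : Pair.{u}} (y : Y ⟶ S) [LocallyOfFiniteType y.hom] {i : K} (φ ψ : E.obj i ⟶ Y)
    (hφ : φ ≫ y = t.app i) (hψ : ψ ≫ y = t.app i) (h : c.π.app i ≫ φ = c.π.app i ≫ ψ) :
    ∃ (j : K) (f : j ⟶ i), E.map f ≫ φ = E.map f ≫ ψ := by
  obtain ⟨⟨hc'⟩, hm⟩ := isLimit_forget hmin c hc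
  have : ∀ {i j : K} (t : i ⟶ j), IsAffineHom ((E ⋙ Pair.forget).map t) :=
    fun t => inferInstanceAs (IsAffineHom (E.map t).hom)
  have : ∀ i, CompactSpace ((E ⋙ Pair.forget).obj i) := fun i => inferInstanceAs (CompactSpace (E.obj i).total)
  let t' : E ⋙ Pair.forget ⟶ (Functor.const K).obj S.total :=
    { app := fun k => (t.app k).hom
      naturality := fun i j f => congrArg Pair.Hom.hom (t.naturality f) }
  obtain ⟨j, f, hf⟩ := Scheme.exists_hom_comp_eq_comp_of_locallyOfFiniteType (E ⋙ Pair.forget) t' y.hom _ hc'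
    (i := i) φ.hom ψ.hom (congrArg Pair.Hom.hom hφ).symm (congrArg Pair.Hom.hom hψ).symm (congrArg Pair.Hom.hom h)
  exact ⟨j, f, Pair.Hom.ext hf⟩

end K971.PairLim
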