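import Mathlib.CategoryTheory.Localization.CalculusOfFractions
import Mathlib.CategoryTheory.Comma.Over.Basic

/-!
# Localization of slice categories for a calculus of right fractions

* `hasRightCalculus_over`: the class of morphisms of `Over S` with underlying morphism in `W` admits a calculus of right
  fractions.
* `isEquivalence`: `(C/S)[W_S⁻¹] ≃ C[W⁻¹]/S`.
-/

set_option autoImplicit false
set_option backward.isDefEq.respectTransparency false

universe v₁ v₂ v₃ u₁ u₂ u₃

open CategoryTheory

namespace K971.SliceLoc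

variable {C : Type u₁} [Category.{v₁} C] (W : MorphismProperty C) (S : C)

instance isMultiplicative_over [W.IsMultiplicative] : (W.inverseImage (Over.forget S)).IsMultiplicative where
  id_mem X := W.id_mem X.left
  comp_mem f g hf hg := W.comp_mem f.left g.left hf hg

instance hasRightCalculus_over [W.HasRightCalculusOfFractions] :
    (W.inverseImage (Over.forget S)).HasRightCalculusOfFractions where
  exists_rightFraction X Y φ := by
    obtain ⟨ψ, h⟩ := (MorphismProperty.LeftFraction.mk (W := W) φ.f.left φ.s.left φ.hs).exists_rightFraction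
    dsimp at h
    refine ⟨⟨(Over.homMk ψ.s rfl : Over.mk (ψ.s ≫ X.hom) ⟶ X), ψ.hs, Over.homMk ψ.f ?_⟩, ?_⟩
    · dsimp
      rw [← Over.w φ.s, ← reassoc_of% h, Over.w]
    · ext
      exact h
  ext X Y Y' f₁ f₂ s hs h := by
    obtain ⟨X', t, ht, e⟩ := MorphismProperty.HasRightCalculusOfFractions.ext (W := W) f₁.left f₂.left s.left hs
      (by simpa using congrArg (fun k => CommaMorphism.left k) h)
    refine ⟨Over.mk (t ≫ X.hom), Over.homMk t rfl, ht, ?_⟩
    ext
    exact e

variable {W S} {D : Type u₂} [Category.{v₂} D] (L : C ⥤ D)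
  {E : Type u₃} [Category.{v₃} E] (L' : Over S ⥤ E) (Φ : E ⥤ Over (L.obj S)) (e : L' ⋙ Φ ≅ Over.post L)

/-- the underlying fraction of a fraction over `S` -/
def forgetFrac {X Y : Over S} (φ : (W.inverseImage (Over.forget S)).RightFraction X Y) :
    W.RightFraction X.left Y.left := ⟨φ.s.left, φ.hs, φ.f.left⟩

section

variable [L.IsLocalization W] [L'.IsLocalization (W.inverseImage (Over.forget S))]

/-- the image of `φ.map L'` under `Φ` is given by the underlying fraction -/
lemma map_frac {X Y : Over S} (φ : (W.inverseImage (Over.forget S)).RightFraction X Y) :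
    (e.inv.app X ≫ Φ.map (φ.map L' (Localization.inverts _ _)) ≫ e.hom.app Y).left =
      (forgetFrac φ).map L (Localization.inverts _ _) := by
  have : IsIso (L.map φ.s.left) := Localization.inverts L W _ φ.hs
  rw [← cancel_epi (L.map φ.s.left)]
  have h1 : L.map φ.s.left ≫ (forgetFrac φ).map L (Localization.inverts _ _) = L.map φ.f.left :=
    MorphismProperty.RightFraction.map_s_comp_map (forgetFrac φ) L _
  rw [h1]
  have h2 : ((Over.post L).map φ.s ≫ e.inv.app X ≫ Φ.map (φ.map L' (Localization.inverts _ _)) ≫ e.hom.app Y) =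
      (Over.post L).map φ.f := by
    have n1 : (Over.post L).map φ.s ≫ e.inv.app X = e.inv.app φ.X' ≫ Φ.map (L'.map φ.s) := e.inv.naturality φ.s
    have n2 : Φ.map (L'.map φ.f) ≫ e.hom.app Y = e.hom.app φ.X' ≫ (Over.post L).map φ.f := e.hom.naturality φ.f
    rw [reassoc_of% n1, ← Φ.map_comp_assoc, MorphismProperty.RightFraction.map_s_comp_map, n2]
    exact Iso.inv_hom_id_app_assoc e φ.X' _
  exact congrArg (fun k => CommaMorphism.left k) h2

variable [W.HasRightCalculusOfFractions]

include W e in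
lemma eq_of_map_eq {X Y : Over S} (a b : L'.obj X ⟶ L'.obj Y) (h : Φ.map a = Φ.map b) : a = b := by
  obtain ⟨φ, rfl⟩ := Localization.exists_rightFraction L' (W.inverseImage (Over.forget S)) a
  obtain ⟨ψ, rfl⟩ := Localization.exists_rightFraction L' (W.inverseImage (Over.forget S)) b
  have h1 : (forgetFrac φ).map L (Localization.inverts _ _) = (forgetFrac ψ).map L (Localization.inverts _ _) := by
    rw [← map_frac L L' Φ e φ, ← map_frac L L' Φ e ψ, h]
  rw [MorphismProperty.RightFraction.map_eq_iff] at h1 ⊢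
  obtain ⟨Z, t₁, t₂, hs, hf, ht⟩ := h1
  have hs' : t₁ ≫ φ.s.left = t₂ ≫ ψ.s.left := hs
  refine ⟨Over.mk (t₁ ≫ φ.X'.hom), Over.homMk t₁ rfl, Over.homMk t₂ ?_, ?_, ?_, ht⟩
  · dsimp
    rw [← Over.w φ.s, ← Over.w ψ.s, reassoc_of% hs']
  · ext
    exact hs
  · ext
    exact hf

include W e in
lemma exists_map_eq {X Y : Over S} (g : Φ.obj (L'.obj X) ⟶ Φ.obj (L'.obj Y)) : ∃ a, Φ.map a = g := by
  obtain ⟨φ, hφ⟩ := Localization.exists_rightFraction L W (e.inv.app X ≫ g ≫ e.hom.app Y).left
  have h1 : (e.inv.app X ≫ g ≫ e.hom.app Y).left ≫ L.map Y.hom = L.map X.hom :=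
    Over.w (e.inv.app X ≫ g ≫ e.hom.app Y)
  have h2 : L.map (φ.f ≫ Y.hom) = L.map (φ.s ≫ X.hom) := by
    rw [L.map_comp, L.map_comp, ← h1, hφ, MorphismProperty.RightFraction.map_s_comp_map_assoc]
  rw [MorphismProperty.map_eq_iff_precomp L W] at h2
  obtain ⟨Z, t, ht, h3⟩ := h2
  let ψ : (W.inverseImage (Over.forget S)).RightFraction X Y :=
    ⟨(Over.homMk (t ≫ φ.s) rfl : Over.mk ((t ≫ φ.s) ≫ X.hom) ⟶ X), W.comp_mem _ _ ht φ.hs,
      Over.homMk (t ≫ φ.f) (by dsimp; rw [Category.assoc, h3, Category.assoc])⟩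
  refine ⟨ψ.map L' (Localization.inverts _ _), ?_⟩
  have h4 : e.inv.app X ≫ Φ.map (ψ.map L' (Localization.inverts _ _)) ≫ e.hom.app Y =
      e.inv.app X ≫ g ≫ e.hom.app Y := by
    ext
    rw [map_frac L L' Φ e ψ, hφ, MorphismProperty.RightFraction.map_eq_iff]
    refine ⟨Z, 𝟙 _, t, ?_, ?_, ?_⟩
    · exact Category.id_comp _
    · exact Category.id_comp _
    · exact W.comp_mem _ _ (W.id_mem _) (W.comp_mem _ _ ht φ.hs)
  have h5 : IsIso (e.inv.app X) := inferInstance
  have h6 : IsIso (e.hom.app Y) := inferInstance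
  have h7 := (cancel_epi (e.inv.app X)).1 h4
  exact (cancel_mono (e.hom.app Y)).1 h7

include L' e W in
theorem isEquivalence : Φ.IsEquivalence where
  faithful := ⟨fun {x y} a b h => by
    have : L'.EssSurj := Localization.essSurj L' (W.inverseImage (Over.forget S))
    let i := L'.objObjPreimageIso x
    let j := L'.objObjPreimageIso y
    have h1 : i.hom ≫ a ≫ j.inv = i.hom ≫ b ≫ j.inv := by
      apply eq_of_map_eq (W := W) L L' Φ e
      simp only [Functor.map_comp, h]
    simpa using h1⟩
  full := ⟨fun {x y} g => by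
    have : L'.EssSurj := Localization.essSurj L' (W.inverseImage (Over.forget S))
    let i := L'.objObjPreimageIso x
    let j := L'.objObjPreimageIso y
    obtain ⟨a, ha⟩ := exists_map_eq (W := W) L L' Φ e (Φ.map i.hom ≫ g ≫ Φ.map j.inv)
    refine ⟨i.inv ≫ a ≫ j.hom, ?_⟩
    rw [Functor.map_comp, Functor.map_comp, ha]
    simp only [Category.assoc, ← Functor.map_comp, ← Functor.map_comp_assoc, Iso.inv_hom_id, Functor.map_id,
      Category.id_comp, Category.comp_id]⟩
  essSurj := ⟨fun Y => by
    have : L.EssSurj := Localization.essSurj L W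
    let i := L.objObjPreimageIso Y.left
    obtain ⟨φ, hφ⟩ := Localization.exists_rightFraction L W (X := L.objPreimage Y.left) (Y := S) (i.hom ≫ Y.hom)
    have : IsIso (L.map φ.s) := Localization.inverts L W _ φ.hs
    refine ⟨L'.obj (Over.mk φ.f), ⟨e.app (Over.mk φ.f) ≪≫ Over.isoMk (asIso (L.map φ.s) ≪≫ i) ?_⟩⟩
    dsimp
    rw [Category.assoc, hφ, MorphismProperty.RightFraction.map_s_comp_map]
    rfl⟩

end

end K971.SliceLoc
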