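import Mathlib.CategoryTheory.Localization.CalculusOfFractions
import Mathlib.CategoryTheory.ObjectProperty.FullSubcategory
import Groth.Agent.ModPair.K971.SliceLoc

/-!
# Localization of full subcategories for a calculus of right fractions

If `P` is a property of objects with `P Y → P X` for every `s : X ⟶ Y` in `W`, then the localization of the full
subcategory of objects with `P` is a full subcategory of the localization.
-/

set_option autoImplicit false
set_option backward.isDefEq.respectTransparency false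

universe v₁ v₂ v₃ u₁ u₂ u₃

open CategoryTheory

namespace K971.SubLoc

variable {C : Type u₁} [Category.{v₁} C] (W : MorphismProperty C) (P : ObjectProperty C)

instance isMultiplicative_sub [W.IsMultiplicative] : (W.inverseImage P.ι).IsMultiplicative where
  id_mem X := W.id_mem X.obj
  comp_mem f g hf hg := W.comp_mem f.hom g.hom hf hg

theorem hasRightCalculus [W.HasRightCalculusOfFractions] (hP : ∀ ⦃X Y : C⦄ (s : X ⟶ Y), W s → P Y → P X) :
    (W.inverseImage P.ι).HasRightCalculusOfFractions where
  exists_rightFraction X Y φ := by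
    obtain ⟨ψ, h⟩ := (MorphismProperty.LeftFraction.mk (W := W) φ.f.hom φ.s.hom φ.hs).exists_rightFraction
    dsimp at h
    refine ⟨⟨(ObjectProperty.homMk ψ.s : (⟨ψ.X', hP ψ.s ψ.hs X.property⟩ : P.FullSubcategory) ⟶ X), ψ.hs,
      ObjectProperty.homMk ψ.f⟩, ?_⟩
    ext
    exact h
  ext X Y Y' f₁ f₂ s hs h := by
    obtain ⟨X', t, ht, e⟩ := MorphismProperty.HasRightCalculusOfFractions.ext (W := W) f₁.hom f₂.hom s.hom hs
      (congrArg (fun k => InducedCategory.Hom.hom k) h)
    refine ⟨⟨X', hP t ht X.property⟩, ObjectProperty.homMk t, ht, ?_⟩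
    ext
    exact e

variable {W P} {D : Type u₂} [Category.{v₂} D] (L : C ⥤ D)
  {E : Type u₃} [Category.{v₃} E] (L' : P.FullSubcategory ⥤ E) (Φ : E ⥤ D) (e : L' ⋙ Φ ≅ P.ι ⋙ L)

/-- the underlying fraction -/
def forgetFrac {X Y : P.FullSubcategory} (φ : (W.inverseImage P.ι).RightFraction X Y) :
    W.RightFraction X.obj Y.obj := ⟨φ.s.hom, φ.hs, φ.f.hom⟩

variable [L.IsLocalization W] [L'.IsLocalization (W.inverseImage P.ι)]

/-- the image of `φ.map L'` under `Φ` is given by the underlying fraction -/
lemma map_frac {X Y : P.FullSubcategory} (φ : (W.inverseImage P.ι).RightFraction X Y) :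
    e.inv.app X ≫ Φ.map (φ.map L' (Localization.inverts _ _)) ≫ e.hom.app Y =
      (forgetFrac φ).map L (Localization.inverts _ _) := by
  have : IsIso (L.map φ.s.hom) := Localization.inverts L W _ φ.hs
  rw [← cancel_epi (L.map φ.s.hom)]
  have h1 : L.map φ.s.hom ≫ (forgetFrac φ).map L (Localization.inverts _ _) = L.map φ.f.hom :=
    MorphismProperty.RightFraction.map_s_comp_map (forgetFrac φ) L _
  rw [h1]
  have n1 : L.map φ.s.hom ≫ e.inv.app X = e.inv.app φ.X' ≫ Φ.map (L'.map φ.s) := e.inv.naturality φ.s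
  have n2 : Φ.map (L'.map φ.f) ≫ e.hom.app Y = e.hom.app φ.X' ≫ L.map φ.f.hom := e.hom.naturality φ.f
  rw [reassoc_of% n1, ← Φ.map_comp_assoc, MorphismProperty.RightFraction.map_s_comp_map, n2]
  exact Iso.inv_hom_id_app_assoc e φ.X' _

variable [W.HasRightCalculusOfFractions] (hP : ∀ ⦃X Y : C⦄ (s : X ⟶ Y), W s → P Y → P X)

include W e hP in
lemma eq_of_map_eq {X Y : P.FullSubcategory} (a b : L'.obj X ⟶ L'.obj Y) (h : Φ.map a = Φ.map b) : a = b := by
  have := hasRightCalculus W P hP
  obtain ⟨φ, rfl⟩ := Localization.exists_rightFraction L' (W.inverseImage P.ι) a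
  obtain ⟨ψ, rfl⟩ := Localization.exists_rightFraction L' (W.inverseImage P.ι) b
  have h1 : (forgetFrac φ).map L (Localization.inverts _ _) = (forgetFrac ψ).map L (Localization.inverts _ _) := by
    rw [← map_frac L L' Φ e φ, ← map_frac L L' Φ e ψ, h]
  rw [MorphismProperty.RightFraction.map_eq_iff] at h1 ⊢
  obtain ⟨Z, t₁, t₂, hs, hf, ht⟩ := h1
  have hZ : P Z := hP _ ht X.property
  refine ⟨⟨Z, hZ⟩, ObjectProperty.homMk t₁, ObjectProperty.homMk t₂, ?_, ?_, ht⟩
  · ext
    exact hs
  · ext
    exact hf

include W e hP in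
lemma exists_map_eq {X Y : P.FullSubcategory} (g : Φ.obj (L'.obj X) ⟶ Φ.obj (L'.obj Y)) : ∃ a, Φ.map a = g := by
  obtain ⟨φ, hφ⟩ := Localization.exists_rightFraction L W (e.inv.app X ≫ g ≫ e.hom.app Y)
  let ψ : (W.inverseImage P.ι).RightFraction X Y :=
    ⟨(ObjectProperty.homMk φ.s : (⟨φ.X', hP φ.s φ.hs X.property⟩ : P.FullSubcategory) ⟶ X), φ.hs,
      ObjectProperty.homMk φ.f⟩
  refine ⟨ψ.map L' (Localization.inverts _ _), ?_⟩
  have h4 : e.inv.app X ≫ Φ.map (ψ.map L' (Localization.inverts _ _)) ≫ e.hom.app Y =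
      e.inv.app X ≫ g ≫ e.hom.app Y := by
    rw [map_frac L L' Φ e ψ, hφ]
    rfl
  have h5 : IsIso (e.inv.app X) := inferInstance
  have h6 : IsIso (e.hom.app Y) := inferInstance
  have h7 := (cancel_epi (e.inv.app X)).1 h4
  exact (cancel_mono (e.hom.app Y)).1 h7

include L' e W hP in
theorem full_faithful : Φ.Full ∧ Φ.Faithful := by
  refine ⟨⟨fun {x y} g => ?_⟩, ⟨fun {x y} a b h => ?_⟩⟩
  · have : L'.EssSurj := Localization.essSurj L' (W.inverseImage P.ι)
    let i := L'.objObjPreimageIso x
    let j := L'.objObjPreimageIso y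
    obtain ⟨a, ha⟩ := exists_map_eq (W := W) L L' Φ e hP (Φ.map i.hom ≫ g ≫ Φ.map j.inv)
    refine ⟨i.inv ≫ a ≫ j.hom, ?_⟩
    rw [Functor.map_comp, Functor.map_comp, ha]
    simp only [Category.assoc, ← Functor.map_comp, ← Functor.map_comp_assoc, Iso.inv_hom_id, Functor.map_id,
      Category.id_comp, Category.comp_id]
  · have : L'.EssSurj := Localization.essSurj L' (W.inverseImage P.ι)
    let i := L'.objObjPreimageIso x
    let j := L'.objObjPreimageIso y
    have h1 : i.hom ≫ a ≫ j.inv = i.hom ≫ b ≫ j.inv := by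
      apply eq_of_map_eq (W := W) L L' Φ e hP
      simp only [Functor.map_comp, h]
    simpa using h1

end K971.SubLoc

namespace K971.SliceLoc

variable {C : Type u₁} [Category.{v₁} C] (W : MorphismProperty C) (S : C) [W.HasRightCalculusOfFractions]
  {D : Type u₂} [Category.{v₂} D] (L : C ⥤ D) [L.IsLocalization W]

/-- the functor on slices is a localization functor -/
theorem isLocalization_post : (Over.post (X := S) L).IsLocalization (W.inverseImage (Over.forget S)) := by
  have hinv : (W.inverseImage (Over.forget S)).IsInvertedBy (Over.post (X := S) L) := by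
    intro X Y f hf
    have : IsIso (L.map f.left) := Localization.inverts L W _ hf
    have : IsIso ((Over.forget (L.obj S)).map ((Over.post L).map f)) := this
    exact isIso_of_reflects_iso _ (Over.forget (L.obj S))
  let Φ := Localization.lift (Over.post (X := S) L) hinv (W.inverseImage (Over.forget S)).Q
  have e : (W.inverseImage (Over.forget S)).Q ⋙ Φ ≅ Over.post L :=
    Localization.fac (Over.post (X := S) L) hinv (W.inverseImage (Over.forget S)).Q
  have hΦ : Φ.IsEquivalence := isEquivalence (W := W) L (W.inverseImage (Over.forget S)).Q Φ e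
  exact Functor.IsLocalization.of_equivalence_target (W.inverseImage (Over.forget S)).Q _ (Over.post L)
    Φ.asEquivalence e

end K971.SliceLoc
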