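import Mathlib.AlgebraicGeometry.ZariskisMainTheorem
import Mathlib.AlgebraicGeometry.Morphisms.Flat
import Mathlib.RingTheory.Valuation.ValuationRing
import Mathlib.RingTheory.QuasiFinite.Basic
import Mathlib.RingTheory.Flat.TorsionFree

/-!
# Flat, proper, generically finite over a valuation ring implies finite
-/

set_option autoImplicit false
universe u
open CategoryTheory CategoryTheory.Limits AlgebraicGeometry TopologicalSpace
open scoped TensorProduct

namespace K971.ValFin

section ring

open Polynomial

variable {R : Type*} [CommRing R] [IsDomain R] [ValuationRing R]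

/-- a nonzero polynomial over a valuation ring is a constant times a polynomial with a unit coefficient -/
theorem exists_primitive (p : R[X]) (hp : p ≠ 0) : ∃ (c : R) (q : R[X]) (i : ℕ), c ≠ 0 ∧ p = C c * q ∧ q.coeff i = 1 := by
  have h1 : ∀ s : Finset ℕ, s.Nonempty → ∃ i ∈ s, ∀ j ∈ s, p.coeff i ∣ p.coeff j := by
    intro s hs
    induction hs using Finset.Nonempty.cons_induction with
    | singleton a => exact ⟨a, Finset.mem_singleton_self a, fun j hj => by rw [Finset.mem_singleton.1 hj]⟩
    | cons a s ha hs ih =>
      obtain ⟨i, hi, h⟩ := ih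
      rcases ValuationRing.dvd_total (p.coeff a) (p.coeff i) with h1 | h1
      · refine ⟨a, Finset.mem_cons_self a s, fun j hj => ?_⟩
        rcases Finset.mem_cons.1 hj with rfl | hj
        · exact dvd_rfl
        · exact h1.trans (h j hj)
      · refine ⟨i, Finset.mem_cons.2 (Or.inr hi), fun j hj => ?_⟩
        rcases Finset.mem_cons.1 hj with rfl | hj
        · exact h1
        · exact h j hj
  obtain ⟨i, hi, h⟩ := h1 p.support (support_nonempty.2 hp)
  have h2 : ∀ j, p.coeff i ∣ p.coeff j := by
    intro j
    by_cases hj : j ∈ p.support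
    · exact h j hj
    · rw [notMem_support_iff.1 hj]; exact dvd_zero _
  have hi0 : p.coeff i ≠ 0 := mem_support_iff.1 hi
  obtain ⟨q, hq⟩ := (C_dvd_iff_dvd_coeff _ _).2 h2
  refine ⟨p.coeff i, q, i, hi0, hq, ?_⟩
  have h3 : p.coeff i = p.coeff i * q.coeff i := by
    conv_lhs => rw [hq]
    rw [coeff_C_mul]
  exact (mul_right_injective₀ hi0 (by simpa using h3.symm))

variable (K : Type*) [Field K] [Algebra R K] [IsFractionRing R K] {A : Type*} [CommRing A] [Algebra R A]
  [Module.Flat R A]

include K in
theorem exists_poly [Algebra.IsIntegral K (K ⊗[R] A)] (a : A) :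
    ∃ (q : R[X]) (i : ℕ), q.coeff i = 1 ∧ aeval a q = 0 := by
  obtain ⟨p, hp, hpa⟩ : IsAlgebraic R ((1 : K) ⊗ₜ[R] a) :=
    (IsFractionRing.isAlgebraic_iff R K (K ⊗[R] A)).2
      (Algebra.IsIntegral.isIntegral (R := K) ((1 : K) ⊗ₜ[R] a)).isAlgebraic
  have hA : Function.Injective (Algebra.TensorProduct.includeRight : A →ₐ[R] K ⊗[R] A) :=
    Algebra.TensorProduct.includeRight_injective (IsFractionRing.injective R K)
  have hpa' : aeval a p = 0 := by
    apply hA
    rw [map_zero, ← aeval_algHom_apply]
    exact hpa
  obtain ⟨c, q, i, hc, rfl, hi⟩ := exists_primitive p hp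
  refine ⟨q, i, hi, ?_⟩
  rw [map_mul, aeval_C, ← Algebra.smul_def] at hpa'
  exact (smul_eq_zero_iff_right hc).1 hpa'

include K in
/-- A flat algebra of finite type over a valuation ring with integral generic fibre is quasi-finite. -/
theorem quasiFinite [Algebra.FiniteType R A] [Algebra.IsIntegral K (K ⊗[R] A)] : Algebra.QuasiFinite R A := by
  constructor
  intro P _
  have h1 : Algebra.IsIntegral P.ResidueField (P.Fiber A) := by
    constructor
    intro x
    induction x using TensorProduct.induction_on with
    | zero => exact isIntegral_zero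
    | add x y hx hy => exact hx.add hy
    | tmul c a =>
      have h2 : c ⊗ₜ[R] a = algebraMap P.ResidueField (P.Fiber A) c * ((1 : P.ResidueField) ⊗ₜ[R] a) := by
        rw [Algebra.TensorProduct.algebraMap_apply, Algebra.TensorProduct.tmul_mul_tmul, mul_one, one_mul]
        rfl
      rw [h2]
      refine isIntegral_algebraMap.mul ?_
      rw [← isAlgebraic_iff_isIntegral]
      obtain ⟨q, i, hi, hq⟩ := exists_poly (R := R) K a
      refine ⟨q.map (algebraMap R P.ResidueField), ?_, ?_⟩
      · intro h
        have := congrArg (fun p => p.coeff i) h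
        simp only [coeff_map, hi, map_one, coeff_zero] at this
        exact one_ne_zero this
      · rw [aeval_map_algebraMap]
        have h3 := congrArg (Algebra.TensorProduct.includeRight : A →ₐ[R] P.Fiber A) hq
        rw [map_zero, ← aeval_algHom_apply] at h3
        exact h3
  exact Algebra.IsIntegral.finite

end ring

/-- affine case -/
theorem locallyQuasiFinite_Spec {R : Type u} [CommRing R] [IsDomain R] [ValuationRing R] (A : Type u) [CommRing A]
    [Algebra R A] [Module.Flat R A] [Algebra.FiniteType R A]
    (h : LocallyQuasiFinite (pullback.snd (Spec.map (CommRingCat.ofHom (algebraMap R A)))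
      (Spec.map (CommRingCat.ofHom (algebraMap R (FractionRing R)))))) :
    LocallyQuasiFinite (Spec.map (CommRingCat.ofHom (algebraMap R A))) := by
  have h1 : LocallyQuasiFinite (pullback.fst (Spec.map (CommRingCat.ofHom (algebraMap R (FractionRing R))))
      (Spec.map (CommRingCat.ofHom (algebraMap R A)))) := by
    rw [← pullbackSymmetry_hom_comp_snd]
    infer_instance
  have h2 : LocallyQuasiFinite (Spec.map (CommRingCat.ofHom (algebraMap (FractionRing R)
      ((FractionRing R) ⊗[R] A)))) := by
    rw [← pullbackSpecIso_inv_fst']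
    infer_instance
  rw [HasRingHomProperty.Spec_iff (P := @LocallyQuasiFinite)] at h2 ⊢
  have h3 : Algebra.QuasiFinite (FractionRing R) ((FractionRing R) ⊗[R] A) := by
    rw [← RingHom.quasiFinite_algebraMap]
    exact h2
  have h4 : Module.Finite (FractionRing R) ((FractionRing R) ⊗[R] A) := Module.Finite.of_quasiFinite
  have h5 : Algebra.QuasiFinite R A := quasiFinite (FractionRing R)
  exact RingHom.quasiFinite_algebraMap.2 h5

theorem locallyQuasiFinite_SpecMap {R : Type u} [CommRing R] [IsDomain R] [ValuationRing R] {A : CommRingCat.{u}}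
    (φ : CommRingCat.of R ⟶ A) [h3 : Flat (Spec.map φ)] [h4 : LocallyOfFiniteType (Spec.map φ)]
    (h : LocallyQuasiFinite (pullback.snd (Spec.map φ)
      (Spec.map (CommRingCat.ofHom (algebraMap R (FractionRing R)))))) :
    LocallyQuasiFinite (Spec.map φ) :=
  @locallyQuasiFinite_Spec R _ _ _ A _ φ.hom.toAlgebra ((HasRingHomProperty.Spec_iff (P := @Flat)).1 h3)
    ((HasRingHomProperty.Spec_iff (P := @LocallyOfFiniteType)).1 h4) h

theorem isFinite_of_flat_of_isProper {R : Type u} [CommRing R]
    [IsDomain R] [ValuationRing R] {Y : Scheme.{u}} (f : Y ⟶ Spec (CommRingCat.of R)) [Flat f] [IsProper f]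
    (hgen : IsFinite (pullback.snd f
      (Spec.map (CommRingCat.ofHom (algebraMap R (FractionRing R)))))) :
    IsFinite f := by
  have : LocallyQuasiFinite f := by
    rw [IsZariskiLocalAtSource.iff_of_openCover (P := @LocallyQuasiFinite) Y.affineCover]
    intro i
    have h1 : LocallyQuasiFinite (pullback.snd (Y.affineCover.f i ≫ f)
        (Spec.map (CommRingCat.ofHom (algebraMap R (FractionRing R))))) := by
      have h2 : pullback.snd (Y.affineCover.f i ≫ f)
        (Spec.map (CommRingCat.ofHom (algebraMap R (FractionRing R)))) =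
          (pullbackRightPullbackFstIso f (Spec.map (CommRingCat.ofHom (algebraMap R (FractionRing R))))
            (Y.affineCover.f i)).inv ≫ pullback.snd _ _ ≫ pullback.snd f _ := by
        rw [Iso.eq_inv_comp]
        simp
      rw [h2]
      infer_instance
    have h3 : Flat (Y.affineCover.f i ≫ f) := inferInstance
    have h4 : LocallyOfFiniteType (Y.affineCover.f i ≫ f) := inferInstance
    obtain ⟨φ, hφ⟩ : ∃ φ : CommRingCat.of R ⟶ _, Spec.map φ = Y.affineCover.f i ≫ f := ⟨_, Spec.map_preimage _⟩
    rw [← hφ] at h1 h3 h4 ⊢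
    exact locallyQuasiFinite_SpecMap φ (h3 := h3) (h4 := h4) h1
  exact IsFinite.of_isProper_of_locallyQuasiFinite f

end K971.ValFin
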